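/-
Inverse systems of iterated cones of multiplication by powers (Koszul systems) and their pro-vanishing.
-/
import Groth.Prelude.Def_DTen
import Groth.Prelude.Def_ega3
import Groth.Agent.L10.KFlat.Res
import Mathlib.Algebra.Homology.HomotopyCategory.Pretriangulated
import Mathlib.Algebra.Category.ModuleCat.Monoidal.Basic
import Mathlib.RingTheory.Noetherian.Basic

set_option autoImplicit false
set_option linter.style.haveILetI false
set_option backward.defeqAttrib.useBackward true
set_option backward.isDefEq.respectTransparency false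
set_option backward.isDefEq.respectTransparency.types false

universe u

open CategoryTheory CategoryTheory.Limits Opposite CochainComplex

namespace Groth.L10.Adic

variable {A : Type u} [CommRing A]

/-- inverse systems of complexes -/
abbrev Sys (A : Type u) [CommRing A] := ℕᵒᵖ ⥤ DRing.Cx A

section ConeSys

variable {S' S : Sys A} (φ : S' ⟶ S)

/-- the cones of a map of systems -/
noncomputable abbrev coneSys : Sys A where
  obj n := mappingCone (φ.app n)
  map i := mappingCone.map _ _ (S'.map i) (S.map i) (φ.naturality i).symm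
  map_id n := by
    ext i : 1
    simp [mappingCone.ext_from_iff _ (i + 1) i rfl, mappingCone.map]
  map_comp p q := by
    ext i : 1
    simp [mappingCone.ext_from_iff _ (i + 1) i rfl, mappingCone.map]

theorem inl_map {n m : ℕᵒᵖ} (i : n ⟶ m) (p q : ℤ) (h : p + (-1) = q) :
    (mappingCone.inl (φ.app n)).v p q h ≫ ((coneSys φ).map i).f q =
      (S'.map i).f p ≫ (mappingCone.inl (φ.app m)).v p q h := by
  simp [coneSys, mappingCone.map]

theorem inr_map {n m : ℕᵒᵖ} (i : n ⟶ m) (q : ℤ) :
    (mappingCone.inr (φ.app n)).f q ≫ ((coneSys φ).map i).f q =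
      (S.map i).f q ≫ (mappingCone.inr (φ.app m)).f q := by
  simp [coneSys, mappingCone.map]

theorem map_fst {n m : ℕᵒᵖ} (i : n ⟶ m) (p q : ℤ) (h : p + 1 = q) :
    ((coneSys φ).map i).f p ≫ (mappingCone.fst (φ.app m)).1.v p q h =
      (mappingCone.fst (φ.app n)).1.v p q h ≫ (S'.map i).f q := by
  simp [mappingCone.ext_from_iff _ q p h, coneSys, mappingCone.map]

theorem map_snd {n m : ℕᵒᵖ} (i : n ⟶ m) (p : ℤ) :
    ((coneSys φ).map i).f p ≫ (mappingCone.snd (φ.app m)).v p p (add_zero p) =
      (mappingCone.snd (φ.app n)).v p p (add_zero p) ≫ (S.map i).f p := by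
  simp [mappingCone.ext_from_iff _ (p + 1) p rfl, coneSys, mappingCone.map]

end ConeSys

/-- transition maps multiplied by `f` -/
noncomputable abbrev twist (f : A) (S : Sys A) : Sys A where
  obj n := S.obj n
  map {a b} i := f ^ (a.unop - b.unop) • S.map i
  map_id a := by simp
  map_comp {a b c} i j := by
    have h1 := leOfHom i.unop
    have h2 := leOfHom j.unop
    rw [S.map_comp, Linear.comp_smul, Linear.smul_comp, smul_smul, ← pow_add]
    congr 2
    omega

/-- multiplication by the powers of `f`, as a map of systems -/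
noncomputable abbrev mulSys (f : A) (S : Sys A) : twist f S ⟶ S where
  app n := f ^ (n.unop + 1) • 𝟙 (S.obj n)
  naturality a b i := by
    have h1 := leOfHom i.unop
    rw [Linear.comp_smul, Category.comp_id, Linear.smul_comp, Category.id_comp, smul_smul, ← pow_add]
    congr 2
    omega

/-- the ideal of the powers of a list of elements -/
def J (fs : List A) (n : ℕ) : Ideal A := Ideal.span ((fun g => g ^ (n + 1)) '' {g | g ∈ fs})

theorem J_cons (f : A) (fs : List A) (n : ℕ) : J (f :: fs) n = Ideal.span {f ^ (n + 1)} ⊔ J fs n := by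
  rw [J, show {g | g ∈ f :: fs} = insert f {g | g ∈ fs} by ext g; simp, Set.image_insert_eq, Ideal.span_insert]
  rfl

theorem J_mono (fs : List A) {n m : ℕ} (h : n ≤ m) : J fs m ≤ J fs n := by
  rw [J, Ideal.span_le]
  rintro _ ⟨g, hg, rfl⟩
  have : g ^ (m + 1) = g ^ (m - n) * g ^ (n + 1) := by rw [← pow_add]; congr 1; omega
  change g ^ (m + 1) ∈ J fs n
  rw [this]
  exact Ideal.mul_mem_left _ _ (Ideal.subset_span ⟨g, hg, rfl⟩)

/-- degree zero components map compatibly to `A` -/
def Compat {S : Sys A} (v : ∀ n : ℕ, (S.obj (op n)).X 0 ≅ ModuleCat.of A A) : Prop :=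
  ∀ {n m : ℕ} (h : n ≤ m), (S.map (homOfLE h).op).f 0 ≫ (v n).hom = (v m).hom

/-- the Koszul system of a list of elements, with what is needed about it -/
structure Stage (fs : List A) where
  S : Sys A
  vanish : ∀ (n : ℕ) (i : ℤ), (i < -(fs.length : ℤ) ∨ 0 < i) → IsZero ((S.obj (op n)).X i)
  flat : ∀ n : ℕ, DRing.TermwiseFlat (S.obj (op n))
  v : ∀ n : ℕ, (S.obj (op n)).X 0 ≅ ModuleCat.of A A
  compat : Compat v
  range_d : ∀ (F : ModuleCat.{u} A ⥤ ModuleCat.{u} A) [F.Additive] [Functor.Linear A F] (n : ℕ)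
    (x : F.obj ((S.obj (op n)).X 0)),
    (∃ z, (F.map ((S.obj (op n)).d (-1) 0)) z = x) ↔
      (F.map (v n).hom) x ∈ J fs n • (⊤ : Submodule A (F.obj (ModuleCat.of A A)))
  acyclic : ∀ (F : ModuleCat.{u} A ⥤ ModuleCat.{u} A) [F.Additive] [Functor.Linear A F]
    [IsNoetherian A (F.obj (ModuleCat.of A A))] (j : ℤ), j < 0 → ∀ n : ℕ, ∃ (m : ℕ) (h : n ≤ m),
      ∀ z : F.obj ((S.obj (op m)).X j), (F.map ((S.obj (op m)).d j (j + 1))) z = 0 →
        ∃ w, (F.map ((S.obj (op n)).d (j - 1) j)) w = (F.map ((S.map (homOfLE h).op).f j)) z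

section Nil

theorem nonempty_stage_nil : Nonempty (Stage ([] : List A)) := by
  let P : DRing.Cx A := (HomologicalComplex.single _ (ComplexShape.up ℤ) 0).obj (ModuleCat.of A A)
  have hP : ∀ i : ℤ, i ≠ 0 → IsZero (P.X i) := fun i hi => HomologicalComplex.isZero_single_obj_X _ _ _ _ hi
  refine ⟨{
    S := (Functor.const _).obj P
    vanish := fun n i hi => hP i (by simp at hi; omega)
    flat := fun n i => ?_
    v := fun _ => HomologicalComplex.singleObjXSelf _ 0 _
    compat := fun h => by simp
    range_d := fun F _ _ n x => ?_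
    acyclic := fun F _ _ _ j hj n => ?_ }⟩
  · by_cases hi : i = 0
    · subst hi
      exact Module.Flat.of_linearEquiv (HomologicalComplex.singleObjXSelf _ 0 (ModuleCat.of A A)).toLinearEquiv
    · haveI : Subsingleton (P.X i) := ModuleCat.subsingleton_of_isZero (hP i hi)
      exact (inferInstance : Module.Flat A (P.X i))
  · have hd : P.d (-1) 0 = 0 := (hP (-1) (by omega)).eq_of_src _ _
    simp only [J, List.not_mem_nil, Set.ofPred_false, Set.image_empty, Ideal.span_empty, Submodule.bot_smul,
      Submodule.mem_bot]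
    constructor
    · rintro ⟨z, rfl⟩
      simp [P]
    · intro h
      refine ⟨0, ?_⟩
      have hinj := (ModuleCat.mono_iff_injective (F.map (HomologicalComplex.singleObjXSelf
        (ComplexShape.up ℤ) 0 (ModuleCat.of A A)).hom)).1 inferInstance
      exact ((map_zero _).trans (hinj (h.trans (map_zero _).symm)).symm)
  · refine ⟨n, le_rfl, fun z _ => ⟨0, ?_⟩⟩
    haveI : Subsingleton (F.obj (P.X j)) :=
      ModuleCat.subsingleton_of_isZero (F.map_isZero (hP j (by omega)))
    exact @Subsingleton.elim _ this _ _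

end Nil

section Step

variable {F : ModuleCat.{u} A ⥤ ModuleCat.{u} A}

theorem map_comp_apply {X Y Z : ModuleCat.{u} A} (f : X ⟶ Y) (g : Y ⟶ Z) (x : F.obj X) :
    (F.map g) ((F.map f) x) = (F.map (f ≫ g)) x := by
  rw [F.map_comp]; rfl

variable [F.Additive]

theorem map_add_apply {X Y : ModuleCat.{u} A} (f g : X ⟶ Y) (x : F.obj X) :
    (F.map (f + g)) x = (F.map f) x + (F.map g) x := by
  rw [F.map_add]; rfl

variable [Functor.Linear A F]

omit [F.Additive] in
theorem map_smul_id_apply {X : ModuleCat.{u} A} (a : A) (x : F.obj X) : (F.map (a • 𝟙 X)) x = a • x := by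
  rw [F.map_smul, F.map_id]; rfl

omit [F.Additive] in
theorem map_smul_apply {X Y : ModuleCat.{u} A} (a : A) (f : X ⟶ Y) (x : F.obj X) :
    (F.map (a • f)) x = a • (F.map f) x := by
  rw [F.map_smul]; rfl

end Step

/-- stabilisation of the torsion -/
theorem exists_torsion_bound {M : Type u} [AddCommGroup M] [Module A M] [IsNoetherian A M] (f : A)
    (N : Submodule A M) : ∃ c : ℕ, ∀ (k : ℕ) (y : M), f ^ k • y ∈ N → f ^ c • y ∈ N := by
  obtain ⟨c, hc⟩ := monotone_stabilizes_iff_noetherian.2 ‹_›
    ⟨fun k => N.comap (f ^ k • LinearMap.id), fun a b hab y hy => by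
      simp only [Submodule.mem_comap, LinearMap.smul_apply, LinearMap.id_apply] at hy ⊢
      rw [show b = (b - a) + a by omega, pow_add, mul_smul]
      exact N.smul_mem _ hy⟩
  refine ⟨c, fun k y hy => ?_⟩
  have h1 : y ∈ N.comap (f ^ (max c k) • LinearMap.id) := by
    simp only [Submodule.mem_comap, LinearMap.smul_apply, LinearMap.id_apply]
    rw [show max c k = (max c k - k) + k by omega, pow_add, mul_smul]
    exact N.smul_mem _ hy
  have h2 := hc (max c k) (le_max_left _ _)
  change N.comap (f ^ c • LinearMap.id) = N.comap (f ^ (max c k) • LinearMap.id) at h2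
  rw [← h2] at h1
  exact h1

theorem nonempty_stage_cons (f : A) {fs : List A} (T : Stage fs) : Nonempty (Stage (f :: fs)) := by
  let φ := mulSys f T.S
  have hz1 : ∀ n : ℕ, IsZero ((T.S.obj (op n)).X 1) := fun n => T.vanish n 1 (Or.inr (by omega))
  let inr0 : ∀ n : ℕ, (T.S.obj (op n)).X 0 ≅ (mappingCone (φ.app (op n))).X 0 := fun n =>
    { hom := (mappingCone.inr (φ.app (op n))).f 0
      inv := (mappingCone.snd (φ.app (op n))).v 0 0 (add_zero 0)
      hom_inv_id := mappingCone.inr_f_snd_v _ 0
      inv_hom_id := by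
        have h := mappingCone.id_X (φ.app (op n)) 0 1 rfl
        rw [show (mappingCone.fst (φ.app (op n))).1.v 0 1 rfl = 0 from (hz1 n).eq_of_tgt _ _, zero_comp,
          zero_add] at h
        exact h }
  refine ⟨{
    S := coneSys φ
    vanish := fun n i hi => ?_
    flat := fun n i => ?_
    v := fun n => (inr0 n).symm ≪≫ T.v n
    compat := fun {n m} h => ?_
    range_d := fun F _ _ n x => ?_
    acyclic := fun F _ _ _ j hj n => ?_ }⟩
  · change IsZero ((mappingCone (φ.app (op n))).X i)
    rw [mappingCone.isZero_X_iff]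
    simp only [List.length_cons, Nat.cast_add, Nat.cast_one] at hi
    exact ⟨T.vanish n (i + 1) (by omega), T.vanish n i (by omega)⟩
  · exact Groth.L10.KFlat.flat_mappingCone (φ.app (op n)) (T.flat n) (T.flat n) i
  · change ((coneSys φ).map _).f 0 ≫ ((mappingCone.snd (φ.app (op n))).v 0 0 (add_zero 0) ≫ (T.v n).hom) =
      (mappingCone.snd (φ.app (op m))).v 0 0 (add_zero 0) ≫ (T.v m).hom
    rw [← Category.assoc, map_snd, Category.assoc, T.compat h]
  · -- the image of the last differential
    let K := mappingCone (φ.app (op n))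
    have hsnd : K.d (-1) 0 ≫ (mappingCone.snd (φ.app (op n))).v 0 0 (add_zero 0) =
        f ^ (n + 1) • (mappingCone.fst (φ.app (op n))).1.v (-1) 0 rfl +
          (mappingCone.snd (φ.app (op n))).v (-1) (-1) (add_zero _) ≫ (T.S.obj (op n)).d (-1) 0 := by
      rw [mappingCone.d_snd_v _ (-1) 0 rfl]
      congr 1
    have hval : ∀ z : F.obj (K.X (-1)),
        (F.map ((mappingCone.snd (φ.app (op n))).v 0 0 (add_zero 0) ≫ (T.v n).hom)) ((F.map (K.d (-1) 0)) z) =
          f ^ (n + 1) • (F.map ((mappingCone.fst (φ.app (op n))).1.v (-1) 0 rfl ≫ (T.v n).hom)) z +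
            (F.map (T.v n).hom) ((F.map ((T.S.obj (op n)).d (-1) 0))
              ((F.map ((mappingCone.snd (φ.app (op n))).v (-1) (-1) (add_zero _))) z)) := fun z => by
      rw [map_comp_apply, ← Category.assoc, hsnd]
      erw [Preadditive.add_comp, Linear.smul_comp, map_add_apply, map_smul_apply]
      rw [map_comp_apply, map_comp_apply]
      simp only [Category.assoc]
      rfl
    simp only [Iso.trans_hom, Iso.symm_hom, inr0]
    rw [J_cons, Submodule.sup_smul, Submodule.mem_sup]
    constructor
    · rintro ⟨z, rfl⟩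
      exact ⟨_, Submodule.smul_mem_smul (Ideal.mem_span_singleton_self _) trivial, _,
        (T.range_d F n _).1 ⟨_, rfl⟩, (hval z).symm⟩
    · rintro ⟨p, hp, q, hq, hpq⟩
      rw [Submodule.ideal_span_singleton_smul, Submodule.mem_smul_pointwise_iff_exists] at hp
      obtain ⟨a, -, rfl⟩ := hp
      let x₀ := (F.map (T.v n).inv) a
      obtain ⟨y₀, hy₀⟩ := (T.range_d F n ((F.map (T.v n).inv) q)).2 (by
        rw [map_comp_apply, Iso.inv_hom_id, F.map_id]; exact hq)
      haveI : IsIso ((mappingCone.snd (φ.app (op n))).v 0 0 (add_zero 0)) := (inr0 n).isIso_inv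
      have hinj : Function.Injective
          (F.map ((mappingCone.snd (φ.app (op n))).v 0 0 (add_zero 0) ≫ (T.v n).hom)) :=
        (ModuleCat.mono_iff_injective _).1 inferInstance
      let z₀ : F.obj (K.X (-1)) := (F.map ((mappingCone.inl (φ.app (op n))).v 0 (-1) rfl)) x₀ +
        (F.map ((mappingCone.inr (φ.app (op n))).f (-1))) y₀
      have h1 : (F.map ((mappingCone.fst (φ.app (op n))).1.v (-1) 0 rfl ≫ (T.v n).hom)) z₀ = a := by
        simp only [z₀, map_add, map_comp_apply]
        rw [mappingCone.inl_v_fst_v_assoc, mappingCone.inr_f_fst_v_assoc, zero_comp, F.map_zero]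
        simp only [x₀, map_comp_apply, Iso.inv_hom_id, F.map_id, ModuleCat.hom_id, LinearMap.id_apply,
          ModuleCat.hom_zero, LinearMap.zero_apply, add_zero]
      have h2 : (F.map ((mappingCone.snd (φ.app (op n))).v (-1) (-1) (add_zero _))) z₀ = y₀ := by
        simp only [z₀, map_add, map_comp_apply]
        rw [mappingCone.inl_v_snd_v, mappingCone.inr_f_snd_v, F.map_zero, F.map_id]
        simp
      have h3 : (F.map (T.v n).hom) ((F.map (T.v n).inv) q) = q := by
        rw [map_comp_apply, Iso.inv_hom_id, F.map_id]; rfl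
      exact ⟨z₀, hinj ((hval z₀).trans (by rw [h1, h2, hy₀, h3]; exact hpq))⟩
  · -- pro-vanishing in negative degrees
    obtain ⟨n₁, hn₁, hT⟩ := T.acyclic F j hj n
    obtain ⟨m, hm, hx⟩ : ∃ (m : ℕ) (h : n₁ ≤ m), ∀ (x : F.obj ((T.S.obj (op m)).X (j + 1)))
        (y : F.obj ((T.S.obj (op m)).X j)),
        (F.map ((T.S.obj (op m)).d (j + 1) (j + 2))) x = 0 →
        f ^ (m + 1) • x + (F.map ((T.S.obj (op m)).d j (j + 1))) y = 0 →
        ∃ x₁, (F.map ((T.S.obj (op n₁)).d j (j + 1))) x₁ =
          (F.map (((twist f T.S).map (homOfLE h).op).f (j + 1))) x := by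
      by_cases hj' : j + 1 < 0
      · obtain ⟨m, hm, hT'⟩ := T.acyclic F (j + 1) hj' n₁
        refine ⟨m, hm, fun x y hx _ => ?_⟩
        obtain ⟨x₁, hx₁⟩ := hT' x (by rw [show j + 1 + 1 = j + 2 by ring]; exact hx)
        rw [show j + 1 - 1 = j by ring] at hT'
        have hT'' := hT' x (by rw [show j + 1 + 1 = j + 2 by ring]; exact hx)
        obtain ⟨x₁, hx₁⟩ := hT''
        refine ⟨f ^ (m - n₁) • x₁, ?_⟩
        rw [HomologicalComplex.smul_f_apply]
        erw [map_smul_apply]
        rw [map_smul, hx₁]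
      · obtain rfl : j = -1 := by omega
        obtain ⟨c, hc⟩ := exists_torsion_bound (M := F.obj (ModuleCat.of A A)) f
          (J fs n₁ • (⊤ : Submodule A (F.obj (ModuleCat.of A A))))
        refine ⟨n₁ + c, Nat.le_add_right _ _, fun x y _ hxy => (T.range_d F n₁ _).2 ?_⟩
        have h1 : f ^ (n₁ + c + 1) • (F.map (T.v (n₁ + c)).hom) x ∈
            J fs n₁ • (⊤ : Submodule A (F.obj (ModuleCat.of A A))) := by
          rw [← map_smul]
          change (F.map (T.v (n₁ + c)).hom) (f ^ (n₁ + c + 1) • x) ∈ _
          rw [eq_neg_of_add_eq_zero_left hxy, map_neg]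
          exact Submodule.neg_mem _ (Submodule.smul_mono_left (J_mono fs (Nat.le_add_right _ _))
            ((T.range_d F (n₁ + c) _).1 ⟨y, rfl⟩))
        have h2 := hc _ _ h1
        simp only [Nat.add_sub_cancel_left, HomologicalComplex.smul_f_apply]
        erw [map_smul_apply]
        erw [map_smul, map_comp_apply, T.compat (Nat.le_add_right n₁ c)]
        exact h2
    refine ⟨m, hn₁.trans hm, fun z hz => ?_⟩
    let K := fun k : ℕ => mappingCone (φ.app (op k))
    let P := fun (k : ℕ) (p q : ℤ) (h : p + 1 = q) => (mappingCone.fst (φ.app (op k))).1.v p q h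
    let Q := fun (k : ℕ) (p : ℤ) => (mappingCone.snd (φ.app (op k))).v p p (add_zero p)
    have hPz : (F.map ((T.S.obj (op m)).d (j + 1) (j + 2))) ((F.map (P m j (j + 1) rfl)) z) = 0 := by
      have h := congrArg (fun w => (F.map (P m (j + 1) (j + 2) (by omega))) w) hz
      simp only [map_zero] at h
      rw [map_comp_apply] at h ⊢
      erw [mappingCone.d_fst_v _ j (j + 1) (j + 2) rfl (by omega)] at h
      rw [F.map_neg] at h
      exact neg_eq_zero.1 h
    have hQz : f ^ (m + 1) • (F.map (P m j (j + 1) rfl)) z +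
        (F.map ((T.S.obj (op m)).d j (j + 1))) ((F.map (Q m j)) z) = 0 := by
      have h := congrArg (fun w => (F.map (Q m (j + 1))) w) hz
      simp only [map_zero] at h
      rw [map_comp_apply] at h
      erw [mappingCone.d_snd_v _ j (j + 1) rfl] at h
      rw [map_add_apply, ← map_comp_apply, ← map_comp_apply] at h
      simp only [φ, HomologicalComplex.smul_f_apply, HomologicalComplex.id_f] at h
      erw [map_smul_id_apply] at h
      exact h
    obtain ⟨x₁, hx₁⟩ := hx _ _ hPz hQz
    let z' := (F.map (((coneSys φ).map (homOfLE hm).op).f j)) z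
    let w₁ := (F.map ((mappingCone.inl (φ.app (op n₁))).v j (j - 1) (by omega))) x₁
    let z'' := z' + (F.map ((K n₁).d (j - 1) j)) w₁
    have hP : (F.map (P n₁ j (j + 1) rfl)) z'' = 0 := by
      simp only [z'', map_add]
      rw [map_comp_apply, map_comp_apply, map_comp_apply, mappingCone.inl_v_d_assoc]
      · erw [map_fst]
        rw [← map_comp_apply, Preadditive.sub_comp, Category.assoc, Category.assoc, mappingCone.inr_f_fst_v,
          mappingCone.inl_v_fst_v, comp_zero, Category.comp_id, zero_sub, F.map_neg]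
        erw [← hx₁]
        exact add_neg_cancel _
      · omega
    have hid : z'' = (F.map ((mappingCone.inr (φ.app (op n₁))).f j)) ((F.map (Q n₁ j)) z'') := by
      have h := congrArg (fun g => (F.map g) z'') (mappingCone.id_X (φ.app (op n₁)) j (j + 1) rfl)
      simp only [map_add_apply, F.map_id, ModuleCat.hom_id, LinearMap.id_apply] at h
      rw [← map_comp_apply, ← map_comp_apply] at h
      erw [hP, map_zero, zero_add] at h
      exact h.symm
    have hd'' : (F.map ((K n₁).d j (j + 1))) z'' = 0 := by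
      simp only [z'', z', map_add]
      rw [map_comp_apply, map_comp_apply, HomologicalComplex.Hom.comm, HomologicalComplex.d_comp_d,
        ← map_comp_apply]
      erw [hz]
      simp
    have hy : (F.map ((T.S.obj (op n₁)).d j (j + 1))) ((F.map (Q n₁ j)) z'') = 0 := by
      rw [hid, map_comp_apply, mappingCone.inr_f_d, ← map_comp_apply] at hd''
      have h := congrArg (fun w => (F.map (Q n₁ (j + 1))) w) hd''
      simp only [map_zero] at h
      rw [map_comp_apply, mappingCone.inr_f_snd_v, F.map_id] at h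
      exact h
    obtain ⟨y₁, hy₁⟩ := hT _ hy
    refine ⟨(F.map ((mappingCone.inr (φ.app (op n))).f (j - 1))) y₁ -
      (F.map (((coneSys φ).map (homOfLE hn₁).op).f (j - 1))) w₁, ?_⟩
    have hz_n : (F.map (((coneSys φ).map (homOfLE (hn₁.trans hm)).op).f j)) z =
        (F.map (((coneSys φ).map (homOfLE hn₁).op).f j)) z' := by
      simp only [z']
      rw [map_comp_apply, ← HomologicalComplex.comp_f]
      exact congrArg (fun g => (F.map (HomologicalComplex.Hom.f g j)) z)
        ((coneSys φ).map_comp (homOfLE hm).op (homOfLE hn₁).op)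
    rw [hz_n, show z' = z'' - (F.map ((K n₁).d (j - 1) j)) w₁ by simp [z''], map_sub, map_sub]
    congr 1
    · conv_rhs => rw [hid, map_comp_apply, inr_map, ← map_comp_apply]
      rw [← hy₁, map_comp_apply, map_comp_apply]
      exact congrArg (fun g => (F.map g) y₁) (mappingCone.inr_f_d _ _ _)
    · simp only [w₁, K, map_comp_apply, HomologicalComplex.Hom.comm, Category.assoc]

theorem nonempty_stage (fs : List A) : Nonempty (Stage fs) := by
  induction fs with
  | nil => exact nonempty_stage_nil
  | cons f fs ih => exact nonempty_stage_cons f ih.some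

end Groth.L10.Adic
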