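/-
Pro-vanishing of the homology of cones, and cones of degreewise short exact sequences.
-/
import Groth.Agent.L10.DTen.Adic.Koszul
import Groth.Prelude.Def_DerCA
import Mathlib.Algebra.Homology.HomologicalComplexAbelian
import Mathlib.Algebra.Homology.ShortComplex.ModuleCat

set_option autoImplicit false
set_option linter.style.haveILetI false
set_option backward.defeqAttrib.useBackward true
set_option backward.isDefEq.respectTransparency false
set_option backward.isDefEq.respectTransparency.types false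

universe u

open CategoryTheory CategoryTheory.Limits Opposite CochainComplex

namespace Groth.L10.Adic

variable {A : Type u} [CommRing A]

/-- a map sending cycles to boundaries is zero on homology -/
theorem homologyMap_eq_zero_of_elements {X Y : DRing.Cx A} (g : X ⟶ Y) (k k₀ k₁ : ℤ) (_h₀ : k₀ + 1 = k)
    (_h₁ : k + 1 = k₁) (h : ∀ z, X.d k k₁ z = 0 → ∃ w, Y.d k₀ k w = g.f k z) :
    HomologicalComplex.homologyMap g k = 0 := by
  rw [← cancel_epi (X.homologyπ k), comp_zero, HomologicalComplex.homologyπ_naturality]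
  ext c
  obtain ⟨w, hw⟩ := h ((X.iCycles k).hom c) (congrArg (fun f : X.cycles k ⟶ X.X k₁ => f c) (X.iCycles_d k k₁))
  have hinj : Function.Injective (Y.iCycles k) := (ModuleCat.mono_iff_injective _).1 inferInstance
  have hc : HomologicalComplex.cyclesMap g k c = Y.toCycles k₀ k w := hinj <| by
    refine Eq.trans ?_ ((congrArg (fun f : Y.X k₀ ⟶ Y.X k => f w) (Y.toCycles_i k₀ k)).trans hw).symm.symm.symm
    exact congrArg (fun f : X.cycles k ⟶ Y.X k => f c) (HomologicalComplex.cyclesMap_i g k)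
  change (Y.homologyπ k) (HomologicalComplex.cyclesMap g k c) = 0
  rw [hc]
  exact congrArg (fun f : Y.X k₀ ⟶ Y.homology k => f w) (Y.toCycles_comp_homologyπ k₀ k)

theorem app_comp_zero {X Y Z : ModuleCat.{u} A} (f : X ⟶ Y) (g : Y ⟶ Z) {z : X} (h : f z = 0) :
    (f ≫ g) z = 0 := by
  change g (f z) = 0
  rw [h, map_zero]

/-- pro-vanishing of all homology of the cones -/
def ConeAcyclic {P R : Sys A} (ψ : P ⟶ R) : Prop :=
  ∀ k : ℤ, DerCA.IsProZero (coneSys ψ ⋙ HomologicalComplex.homologyFunctor (ModuleCat.{u} A) (ComplexShape.up ℤ) k)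

/-- cones of maps to systems concentrated in one degree -/
theorem coneAcyclic_of_elements {P R : Sys A} (ψ : P ⟶ R) (i : ℤ)
    (hR : ∀ (n : ℕ) (k : ℤ), k ≠ i → IsZero ((R.obj (op n)).X k))
    (hP1 : ∀ n : ℕ, IsZero ((P.obj (op n)).X (i + 1)))
    (hac : ∀ j p q : ℤ, p + 1 = j → j + 1 = q → j ≠ i → ∀ n, ∃ (m : ℕ) (h : n ≤ m),
      ∀ x, (P.obj (op m)).d j q x = 0 → ∃ w, (P.obj (op n)).d p j w = (P.map (homOfLE h).op).f j x)
    (hsurj : ∀ n : ℕ, Function.Surjective ((ψ.app (op n)).f i))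
    (hker : ∀ p : ℤ, p + 1 = i → ∀ n, ∃ (m : ℕ) (h : n ≤ m), ∀ x, (ψ.app (op m)).f i x = 0 →
      ∃ w, (P.obj (op n)).d p i w = (P.map (homOfLE h).op).f i x) :
    ConeAcyclic ψ := by
  intro k n
  obtain rfl | hk := eq_or_ne k i
  · refine ⟨n, le_rfl, homologyMap_eq_zero_of_elements _ k (k - 1) (k + 1) (by omega) rfl fun z hz => ?_⟩
    have hzi : ((mappingCone.fst (ψ.app (op n))).1.v k (k + 1) rfl) z = 0 := by
      rw [(hP1 n).eq_of_tgt ((mappingCone.fst (ψ.app (op n))).1.v k (k + 1) rfl) 0]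
      rfl
    obtain ⟨x, hx⟩ := hsurj n (((mappingCone.snd (ψ.app (op n))).v k k (add_zero k)) z)
    refine ⟨((mappingCone.inl (ψ.app (op n))).v k (k - 1) (by omega)) x, ?_⟩
    have h2 : z = ((mappingCone.inr (ψ.app (op n))).f k) (((mappingCone.snd (ψ.app (op n))).v k k (add_zero k)) z) := by
      have h := congrArg (fun f : (mappingCone (ψ.app (op n))).X k ⟶ (mappingCone (ψ.app (op n))).X k => f z)
        (mappingCone.id_X (ψ.app (op n)) k (k + 1) rfl)
      have h' : ((mappingCone.inl (ψ.app (op n))).v (k + 1) k (by omega))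
          (((mappingCone.fst (ψ.app (op n))).1.v k (k + 1) rfl) z) +
          ((mappingCone.inr (ψ.app (op n))).f k) (((mappingCone.snd (ψ.app (op n))).v k k (add_zero k)) z) = z := h
      rw [hzi, map_zero, zero_add] at h'
      exact h'.symm
    have h3 : ((coneSys ψ).map (homOfLE (le_refl n)).op).f k = 𝟙 _ := by
      rw [Subsingleton.elim (homOfLE (le_refl n)).op (𝟙 (op n)), CategoryTheory.Functor.map_id]; rfl
    rw [h3]
    refine Eq.trans ?_ h2.symm
    rw [← hx]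
    have h4 := congrArg (fun f : (P.obj (op n)).X k ⟶ (mappingCone (ψ.app (op n))).X k => f x)
      (mappingCone.inl_v_d (ψ.app (op n)) k (k - 1) (k + 1) (by omega) (by omega))
    rw [(hP1 n).eq_of_tgt ((P.obj (op n)).d k (k + 1)) 0, zero_comp, sub_zero] at h4
    exact h4
  · have hx : ∃ (m : ℕ) (h : n ≤ m), ∀ z, (mappingCone (ψ.app (op m))).d k (k + 1) z = 0 →
        ∃ x₁, (P.obj (op n)).d k (k + 1) x₁ =
          (P.map (homOfLE h).op).f (k + 1) (((mappingCone.fst (ψ.app (op m))).1.v k (k + 1) rfl) z) := by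
      obtain hki | hki := eq_or_ne (k + 1) i
      · obtain ⟨m, h, hm⟩ := hker k hki n
        subst hki
        refine ⟨m, h, fun z hz => hm _ ?_⟩
        have h5 := congrArg (fun f : (mappingCone (ψ.app (op m))).X k ⟶ (R.obj (op m)).X (k + 1) => f z)
          (mappingCone.d_snd_v (ψ.app (op m)) k (k + 1) rfl)
        rw [(hR m k hk).eq_of_src ((R.obj (op m)).d k (k + 1)) 0, comp_zero, add_zero] at h5
        have h50 : ((mappingCone.snd (ψ.app (op m))).v (k + 1) (k + 1) (add_zero _))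
            ((mappingCone (ψ.app (op m))).d k (k + 1) z) = 0 := by rw [hz, map_zero]
        exact h5.symm.trans h50
      · obtain ⟨m, h, hm⟩ := hac (k + 1) k (k + 2) rfl (by omega) hki n
        refine ⟨m, h, fun z hz => hm _ ?_⟩
        have h5 := congrArg (fun f : (mappingCone (ψ.app (op m))).X k ⟶ (P.obj (op m)).X (k + 2) => f z)
          (mappingCone.d_fst_v (ψ.app (op m)) k (k + 1) (k + 2) rfl (by omega))
        have h6 : - (P.obj (op m)).d (k + 1) (k + 2)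
            (((mappingCone.fst (ψ.app (op m))).1.v k (k + 1) rfl) z) = 0 := by
          have h50 : ((mappingCone.fst (ψ.app (op m))).1.v (k + 1) (k + 2) (by omega))
              ((mappingCone (ψ.app (op m))).d k (k + 1) z) = 0 := by rw [hz, map_zero]
          refine Eq.trans ?_ (h5.symm.trans h50)
          rfl
        exact neg_eq_zero.1 h6
    obtain ⟨m, hm, hx⟩ := hx
    refine ⟨m, hm, homologyMap_eq_zero_of_elements _ k (k - 1) (k + 1) (by omega) rfl fun z hz => ?_⟩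
    obtain ⟨x₁, hx₁⟩ := hx z hz
    refine ⟨-((mappingCone.inl (ψ.app (op n))).v k (k - 1) (by omega)) x₁, ?_⟩
    let g := ((coneSys ψ).map (homOfLE hm).op).f k
    rw [map_neg]
    have h7 := congrArg (fun f : (P.obj (op n)).X k ⟶ (mappingCone (ψ.app (op n))).X k => f x₁)
      (mappingCone.inl_v_d (ψ.app (op n)) k (k - 1) (k + 1) (by omega) (by omega))
    rw [(hR n k hk).eq_of_tgt ((ψ.app (op n)).f k) 0, zero_comp, zero_sub] at h7
    refine (congrArg Neg.neg h7).trans ?_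
    change - -(((mappingCone.inl (ψ.app (op n))).v (k + 1) k (by omega)) ((P.obj (op n)).d k (k + 1) x₁)) = g z
    rw [neg_neg, hx₁]
    have h8 := congrArg (fun f : (mappingCone (ψ.app (op n))).X k ⟶ (mappingCone (ψ.app (op n))).X k => f (g z))
      (mappingCone.id_X (ψ.app (op n)) k (k + 1) rfl)
    have h9 : ((mappingCone.inl (ψ.app (op n))).v (k + 1) k (by omega))
        (((mappingCone.fst (ψ.app (op n))).1.v k (k + 1) rfl) (g z)) +
        ((mappingCone.inr (ψ.app (op n))).f k) (((mappingCone.snd (ψ.app (op n))).v k k (add_zero k)) (g z)) = g z := h8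
    have h10 : ((mappingCone.snd (ψ.app (op n))).v k k (add_zero k)) (g z) = 0 :=
      @Subsingleton.elim _ (ModuleCat.subsingleton_of_isZero (hR n k hk)) _ _
    rw [h10, map_zero, add_zero] at h9
    refine Eq.trans ?_ h9
    congr 1
    exact (congrArg (fun f : (mappingCone (ψ.app (op m))).X k ⟶ (P.obj (op n)).X (k + 1) => f z)
      (map_fst ψ (homOfLE hm).op k (k + 1) rfl)).symm

/-- two out of three for systems -/
theorem isProZero_middle {C : Type*} [Category C] [Abelian C] {X Y Z : ARSys.PS C} (f : X ⟶ Y) (g : Y ⟶ Z)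
    (zero : ∀ n, f.app (op n) ≫ g.app (op n) = 0)
    (hex : ∀ n, (ShortComplex.mk _ _ (zero n)).Exact) (hX : DerCA.IsProZero X) (hZ : DerCA.IsProZero Z) :
    DerCA.IsProZero Y := by
  intro n
  obtain ⟨n', hn', hx⟩ := hX n
  obtain ⟨m, hm, hz⟩ := hZ n'
  refine ⟨m, hn'.trans hm, ?_⟩
  have h0 : ARSys.tr Y hm ≫ g.app (op n') = 0 := by
    rw [g.naturality]
    exact (congrArg (g.app (op m) ≫ ·) hz).trans comp_zero
  obtain ⟨W, π, _, w, hw⟩ := (hex n').exact_up_to_refinements _ h0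
  have hw' : π ≫ ARSys.tr Y hm = w ≫ f.app (op n') := hw
  rw [← cancel_epi π, comp_zero, show ARSys.tr Y (hn'.trans hm) = ARSys.tr Y hm ≫ ARSys.tr Y hn' from
    Y.map_comp _ _, reassoc_of% hw', show f.app (op n') ≫ ARSys.tr Y hn' = ARSys.tr X hn' ≫ f.app (op n) from
    (f.naturality _).symm, hx, zero_comp, comp_zero]

/-- maps between cones of systems -/
noncomputable def coneHom {P R P' R' : Sys A} {ψ : P ⟶ R} {ψ' : P' ⟶ R'} (a : P ⟶ P') (b : R ⟶ R')
    (h : ψ ≫ b = a ≫ ψ') : coneSys ψ ⟶ coneSys ψ' where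
  app n := mappingCone.map _ _ (a.app n) (b.app n) (NatTrans.congr_app h n)
  naturality n m i := by
    have ha : ∀ q, (P.map i).f q ≫ (a.app m).f q = (a.app n).f q ≫ (P'.map i).f q := fun q => by
      rw [← HomologicalComplex.comp_f, a.naturality, HomologicalComplex.comp_f]
    have hb : ∀ q, (R.map i).f q ≫ (b.app m).f q = (b.app n).f q ≫ (R'.map i).f q := fun q => by
      rw [← HomologicalComplex.comp_f, b.naturality, HomologicalComplex.comp_f]
    ext q : 1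
    simp [mappingCone.ext_from_iff _ (q + 1) q rfl, coneSys, mappingCone.map, reassoc_of% ha, reassoc_of% hb]

/-- a short complex built from two short exact ones by splittings is short exact -/
theorem shortExact_of_split {S T U : ShortComplex (ModuleCat.{u} A)} (hT : T.ShortExact) (hU : U.ShortExact)
    (i₁ : T.X₁ ⟶ S.X₁) (j₁ : U.X₁ ⟶ S.X₁) (p₁ : S.X₁ ⟶ T.X₁) (q₁ : S.X₁ ⟶ U.X₁)
    (i₂ : T.X₂ ⟶ S.X₂) (j₂ : U.X₂ ⟶ S.X₂) (p₂ : S.X₂ ⟶ T.X₂) (q₂ : S.X₂ ⟶ U.X₂)
    (i₃ : T.X₃ ⟶ S.X₃) (j₃ : U.X₃ ⟶ S.X₃) (p₃ : S.X₃ ⟶ T.X₃) (q₃ : S.X₃ ⟶ U.X₃)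
    (h₁ : p₁ ≫ i₁ + q₁ ≫ j₁ = 𝟙 S.X₁) (h₂ : p₂ ≫ i₂ + q₂ ≫ j₂ = 𝟙 S.X₂) (h₃ : p₃ ≫ i₃ + q₃ ≫ j₃ = 𝟙 S.X₃)
    (fp : S.f ≫ p₂ = p₁ ≫ T.f) (fq : S.f ≫ q₂ = q₁ ≫ U.f)
    (gp : S.g ≫ p₃ = p₂ ≫ T.g) (gq : S.g ≫ q₃ = q₂ ≫ U.g)
    (fi : i₁ ≫ S.f = T.f ≫ i₂) (fj : j₁ ≫ S.f = U.f ≫ j₂)
    (gi : i₂ ≫ S.g = T.g ≫ i₃) (gj : j₂ ≫ S.g = U.g ≫ j₃) : S.ShortExact := by
  have app : ∀ {X Y : ModuleCat.{u} A} {f g : X ⟶ Y}, f = g → ∀ x, f x = g x := fun h x => by rw [h]
  refine { exact := ?_, mono_f := ?_, epi_g := ?_ }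
  · rw [ShortComplex.moduleCat_exact_iff]
    intro z hz
    obtain ⟨x, hx⟩ := (ShortComplex.moduleCat_exact_iff T).1 hT.exact (p₂ z) (by
      refine (app gp z).symm.trans ?_
      exact app_comp_zero _ _ hz)
    obtain ⟨y, hy⟩ := (ShortComplex.moduleCat_exact_iff U).1 hU.exact (q₂ z) (by
      refine (app gq z).symm.trans ?_
      exact app_comp_zero _ _ hz)
    refine ⟨i₁ x + j₁ y, ?_⟩
    rw [map_add]
    refine Eq.trans (congrArg₂ (· + ·) (app fi x) (app fj y)) ?_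
    change i₂ (T.f x) + j₂ (U.f y) = z
    rw [hx, hy]
    exact app h₂ z
  · rw [ModuleCat.mono_iff_injective]
    refine (injective_iff_map_eq_zero _).2 fun z hz => ?_
    have hx : p₁ z = 0 := (ModuleCat.mono_iff_injective _).1 hT.mono_f
      (((app fp z).symm.trans (app_comp_zero _ _ hz)).trans (map_zero _).symm)
    have hy : q₁ z = 0 := (ModuleCat.mono_iff_injective _).1 hU.mono_f
      (((app fq z).symm.trans (app_comp_zero _ _ hz)).trans (map_zero _).symm)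
    refine (app h₁ z).symm.trans ?_
    change i₁ (p₁ z) + j₁ (q₁ z) = 0
    rw [hx, hy, map_zero, map_zero, add_zero]
  · rw [ModuleCat.epi_iff_surjective]
    intro z
    obtain ⟨x, hx⟩ := (ModuleCat.epi_iff_surjective _).1 hT.epi_g (p₃ z)
    obtain ⟨y, hy⟩ := (ModuleCat.epi_iff_surjective _).1 hU.epi_g (q₃ z)
    refine ⟨i₂ x + j₂ y, ?_⟩
    rw [map_add]
    refine Eq.trans (congrArg₂ (· + ·) (app gi x) (app gj y)) ?_
    change i₃ (T.g x) + j₃ (U.g y) = z
    rw [hx, hy]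
    exact app h₃ z

/-- cones of degreewise short exact sequences are short exact -/
theorem shortExact_cone {S₁ S₂ : ShortComplex (DRing.Cx A)} (h₁ : S₁.ShortExact) (h₂ : S₂.ShortExact)
    (φ : S₁ ⟶ S₂) :
    ∃ w, (ShortComplex.mk (mappingCone.map φ.τ₁ φ.τ₂ S₁.f S₂.f φ.comm₁₂)
      (mappingCone.map φ.τ₂ φ.τ₃ S₁.g S₂.g φ.comm₂₃) w).ShortExact := by
  refine ⟨by
    rw [← mappingCone.map_comp]
    ext i : 1
    simp [mappingCone.ext_from_iff _ (i + 1) i rfl, mappingCone.map], ?_⟩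
  refine HomologicalComplex.shortExact_of_degreewise_shortExact _ fun k => ?_
  have e₁ : (ShortComplex.mk (S₁.f.f (k + 1)) (S₁.g.f (k + 1))
      (by rw [← HomologicalComplex.comp_f, S₁.zero]; rfl)).ShortExact :=
    h₁.map_of_exact (HomologicalComplex.eval (ModuleCat.{u} A) (ComplexShape.up ℤ) (k + 1))
  have e₂ : (ShortComplex.mk (S₂.f.f k) (S₂.g.f k)
      (by rw [← HomologicalComplex.comp_f, S₂.zero]; rfl)).ShortExact :=
    h₂.map_of_exact (HomologicalComplex.eval (ModuleCat.{u} A) (ComplexShape.up ℤ) k)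
  have f₁ : (mappingCone.map φ.τ₁ φ.τ₂ S₁.f S₂.f φ.comm₁₂).f k ≫ (mappingCone.fst φ.τ₂).1.v k (k + 1) rfl =
      (mappingCone.fst φ.τ₁).1.v k (k + 1) rfl ≫ S₁.f.f (k + 1) := by
    simp [mappingCone.ext_from_iff _ (k + 1) k rfl, mappingCone.map]
  have g₁ : (mappingCone.map φ.τ₁ φ.τ₂ S₁.f S₂.f φ.comm₁₂).f k ≫ (mappingCone.snd φ.τ₂).v k k (add_zero k) =
      (mappingCone.snd φ.τ₁).v k k (add_zero k) ≫ S₂.f.f k := by
    simp [mappingCone.ext_from_iff _ (k + 1) k rfl, mappingCone.map]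
  have f₂ : (mappingCone.map φ.τ₂ φ.τ₃ S₁.g S₂.g φ.comm₂₃).f k ≫ (mappingCone.fst φ.τ₃).1.v k (k + 1) rfl =
      (mappingCone.fst φ.τ₂).1.v k (k + 1) rfl ≫ S₁.g.f (k + 1) := by
    simp [mappingCone.ext_from_iff _ (k + 1) k rfl, mappingCone.map]
  have g₂ : (mappingCone.map φ.τ₂ φ.τ₃ S₁.g S₂.g φ.comm₂₃).f k ≫ (mappingCone.snd φ.τ₃).v k k (add_zero k) =
      (mappingCone.snd φ.τ₂).v k k (add_zero k) ≫ S₂.g.f k := by
    simp [mappingCone.ext_from_iff _ (k + 1) k rfl, mappingCone.map]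
  have r₁ : (mappingCone.inl φ.τ₁).v (k + 1) k (by omega) ≫ (mappingCone.map φ.τ₁ φ.τ₂ S₁.f S₂.f φ.comm₁₂).f k =
      S₁.f.f (k + 1) ≫ (mappingCone.inl φ.τ₂).v (k + 1) k (by omega) := by
    simp [mappingCone.map]
  have r₂ : (mappingCone.inr φ.τ₁).f k ≫ (mappingCone.map φ.τ₁ φ.τ₂ S₁.f S₂.f φ.comm₁₂).f k =
      S₂.f.f k ≫ (mappingCone.inr φ.τ₂).f k := by
    simp [mappingCone.map]
  have r₃ : (mappingCone.inl φ.τ₂).v (k + 1) k (by omega) ≫ (mappingCone.map φ.τ₂ φ.τ₃ S₁.g S₂.g φ.comm₂₃).f k =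
      S₁.g.f (k + 1) ≫ (mappingCone.inl φ.τ₃).v (k + 1) k (by omega) := by
    simp [mappingCone.map]
  have r₄ : (mappingCone.inr φ.τ₂).f k ≫ (mappingCone.map φ.τ₂ φ.τ₃ S₁.g S₂.g φ.comm₂₃).f k =
      S₂.g.f k ≫ (mappingCone.inr φ.τ₃).f k := by
    simp [mappingCone.map]
  exact shortExact_of_split e₁ e₂ _ _ _ _ _ _ _ _ _ _ _ _ (mappingCone.id_X φ.τ₁ k (k + 1) rfl)
    (mappingCone.id_X φ.τ₂ k (k + 1) rfl) (mappingCone.id_X φ.τ₃ k (k + 1) rfl) f₁ g₁ f₂ g₂ r₁ r₂ r₃ r₄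

end Groth.L10.Adic
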