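/-
The comparison between the Koszul systems and the adic system, tensored with a bounded complex.
-/
import Groth.Agent.L10.DTen.Adic.Cones
import Groth.Agent.L10.DTen.Single
import Groth.Agent.L10.DTen.Exact
import Groth.Agent.L10.DRing.Devissage
import Mathlib.RingTheory.Ideal.Operations
import Mathlib.LinearAlgebra.TensorProduct.RightExactness
import Mathlib.Algebra.Category.ModuleCat.Monoidal.Closed

set_option autoImplicit false
set_option linter.style.haveILetI false
set_option backward.defeqAttrib.useBackward true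
set_option backward.isDefEq.respectTransparency false
set_option backward.isDefEq.respectTransparency.types false

universe u

open CategoryTheory CategoryTheory.Limits Opposite CochainComplex MonoidalCategory
open scoped TensorProduct

attribute [local instance] HasDerivedCategory.standard

namespace Groth.L10.Adic

variable {A : Type u} [CommRing A] (I : Ideal A)

/-- the quotient map to a term of the adic system -/
noncomputable abbrev mkI (n : ℕ) : ModuleCat.of A A ⟶ (CohIII.adicSystem I (ModuleCat.of A A)).obj (op n) :=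
  ModuleCat.ofHom (Submodule.mkQ (I ^ (n + 1) • (⊤ : Submodule A A)))

theorem mkI_map {n m : ℕ} (h : n ≤ m) :
    mkI I m ≫ (CohIII.adicSystem I (ModuleCat.of A A)).map (homOfLE h).op = mkI I n := by
  induction m, h using Nat.le_induction with
  | base =>
    rw [Subsingleton.elim (homOfLE (le_refl n)).op (𝟙 (op n)), CategoryTheory.Functor.map_id]
    exact Category.comp_id _
  | succ k hk ih =>
    have hsplit : (homOfLE (hk.trans (Nat.le_succ k))).op = (homOfLE (Nat.le_succ k)).op ≫ (homOfLE hk).op := rfl
    rw [hsplit, Functor.map_comp, ← Category.assoc]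
    have : mkI I (k + 1) ≫ (CohIII.adicSystem I (ModuleCat.of A A)).map (homOfLE (Nat.le_succ k)).op = mkI I k := by
      rw [show (CohIII.adicSystem I (ModuleCat.of A A)).map (homOfLE (Nat.le_succ k)).op = _ from
        Functor.ofOpSequence_map_homOfLE_succ _ k]
      rfl
    rw [this, ih]

/-- the adic system as complexes -/
noncomputable abbrev adicCx : Sys A :=
  CohIII.adicSystem I (ModuleCat.of A A) ⋙ HomologicalComplex.single (ModuleCat.{u} A) (ComplexShape.up ℤ) 0

variable {I} {fs : List A} (T : Stage fs) (hfs : ∀ g ∈ fs, g ∈ I)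

include hfs in
theorem d_mkI (n : ℕ) : (T.S.obj (op n)).d (-1) 0 ≫ (T.v n).hom ≫ mkI I n = 0 := by
  ext z
  have h : (T.v n).hom ((T.S.obj (op n)).d (-1) 0 z) ∈ J fs n • (⊤ : Submodule A A) :=
    (T.range_d (𝟭 _) n _).1 ⟨z, rfl⟩
  have hle : J fs n ≤ I ^ (n + 1) := by
    rw [J, Ideal.span_le]
    rintro _ ⟨g, hg, rfl⟩
    exact Ideal.pow_mem_pow (hfs g hg) _
  exact (Submodule.Quotient.mk_eq_zero _).2 (Submodule.smul_mono_left hle h)

/-- the comparison map -/
noncomputable def toAdic : T.S ⟶ adicCx I where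
  app n := HomologicalComplex.mkHomToSingle ((T.v n.unop).hom ≫ mkI I n.unop) (fun i hi => by
    obtain rfl : i = -1 := by simp at hi; omega
    exact d_mkI T hfs n.unop)
  naturality a b i := by
    obtain ⟨a⟩ := a
    obtain ⟨b⟩ := b
    have hi : b ≤ a := leOfHom i.unop
    obtain rfl : i = (homOfLE hi).op := Subsingleton.elim _ _
    refine HomologicalComplex.to_single_hom_ext ?_
    simp only [HomologicalComplex.comp_f, HomologicalComplex.mkHomToSingle_f, Functor.comp_map,
      HomologicalComplex.single_map_f_self, Category.assoc, Iso.inv_hom_id_assoc]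
    rw [reassoc_of% (mkI_map I hi), reassoc_of% (T.compat hi)]

theorem toAdic_f (n : ℕ) : ((toAdic T hfs).app (op n)).f 0 =
    (T.v n).hom ≫ mkI I n ≫ (HomologicalComplex.singleObjXSelf (ComplexShape.up ℤ) 0 _).inv := by
  dsimp only [toAdic]
  rw [HomologicalComplex.mkHomToSingle_f, Category.assoc]

section Elements

variable {F : ModuleCat.{u} A ⥤ ModuleCat.{u} A} [F.Additive] [Functor.Linear A F]
  [IsNoetherian A (F.obj (ModuleCat.of A A))]

theorem acyclic_at (j p q : ℤ) (hp : p + 1 = j) (hq : j + 1 = q) (hj : j < 0) (n : ℕ) :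
    ∃ (m : ℕ) (h : n ≤ m), ∀ z, (F.map ((T.S.obj (op m)).d j q)) z = 0 →
      ∃ w, (F.map ((T.S.obj (op n)).d p j)) w = (F.map ((T.S.map (homOfLE h).op).f j)) z := by
  obtain rfl : p = j - 1 := by omega
  subst hq
  exact T.acyclic F j hj n

theorem sign_smul_apply {X Y : ModuleCat.{u} A} (s : ℤˣ) (f : X ⟶ Y) (x : X) : (s • f) x = s • f x := rfl

variable (F) (hfg : Ideal.span {g | g ∈ fs} = I) (hsurj : ∀ n, Function.Surjective (F.map (mkI I n)))
  (hker : ∀ n, ∀ x, (F.map (mkI I n)) x = 0 → x ∈ I ^ (n + 1) • (⊤ : Submodule A (F.obj (ModuleCat.of A A))))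

include hfg hsurj hker in
/-- the shifted comparison after applying `F` has pro-acyclic cones -/
theorem coneAcyclic_functor (i : ℤ) :
    ConeAcyclic (Functor.whiskerRight (toAdic T hfs)
      (F.mapHomologicalComplex (ComplexShape.up ℤ) ⋙ CategoryTheory.shiftFunctor (DRing.Cx A) (-i))) := by
  refine coneAcyclic_of_elements _ i (fun n k hk => ?_) (fun n => ?_) (fun j p q hp hq hj n => ?_) (fun n => ?_)
    (fun p hp n => ?_)
  · exact F.map_isZero (HomologicalComplex.isZero_single_obj_X _ _ _ _ (show k + -i ≠ 0 by omega))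
  · exact F.map_isZero (T.vanish n _ (Or.inr (show 0 < i + 1 + -i by omega)))
  · by_cases hneg : j + -i < 0
    · obtain ⟨m, h, hm⟩ := acyclic_at (F := F) T (j + -i) (p + -i) (q + -i) (by omega) (by omega) hneg n
      refine ⟨m, h, fun x hx => ?_⟩
      have hx' : (-i).negOnePow • (F.map ((T.S.obj (op m)).d (j + -i) (q + -i))) x = 0 := hx
      rw [smul_eq_zero_iff_eq] at hx'
      obtain ⟨w, hw⟩ := hm x hx'
      refine ⟨(-i).negOnePow • w, ?_⟩
      change (-i).negOnePow • (F.map ((T.S.obj (op n)).d (p + -i) (j + -i))) ((-i).negOnePow • w) = _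
      rw [Units.smul_def, Units.smul_def, map_zsmul, hw, smul_smul, ← Units.val_mul, Int.units_mul_self]
      simp
    · refine ⟨n, le_rfl, fun x _ => ⟨0, ?_⟩⟩
      exact @Subsingleton.elim _ (ModuleCat.subsingleton_of_isZero
        (F.map_isZero (T.vanish n _ (Or.inr (show 0 < j + -i by omega))))) _ _
  · have : ∀ j : ℤ, j = 0 → Function.Surjective (F.map (((toAdic T hfs).app (op n)).f j)) := by
      rintro j rfl
      rw [toAdic_f, F.map_comp, F.map_comp]
      exact ((ConcreteCategory.bijective_of_isIso (F.map (HomologicalComplex.singleObjXSelf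
        (ComplexShape.up ℤ) 0 _).inv)).2.comp (hsurj n)).comp
          (ConcreteCategory.bijective_of_isIso (F.map (T.v n).hom)).2
    exact this (i + -i) (by omega)
  · obtain ⟨c, hc⟩ := Ideal.exists_pow_le_of_le_radical_of_fg (I := I) (J := J fs n) (by
      rw [← hfg, Ideal.span_le]
      exact fun g hg => ⟨n + 1, Ideal.subset_span ⟨g, hg, rfl⟩⟩) (by rw [← hfg]; exact Submodule.fg_span fs.finite_toSet)
    have key : ∀ a b : ℤ, a = -1 → b = 0 → ∀ x, (F.map (((toAdic T hfs).app (op (n + c))).f b)) x = 0 →
        ∃ w, (F.map ((T.S.obj (op n)).d a b)) w = (F.map ((T.S.map (homOfLE (Nat.le_add_right n c)).op).f b)) x := by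
      rintro _ _ rfl rfl x hx
      rw [toAdic_f, ← map_comp_apply, ← map_comp_apply] at hx
      have hx' : (F.map (mkI I (n + c))) ((F.map (T.v (n + c)).hom) x) = 0 := by
        refine (ConcreteCategory.bijective_of_isIso (F.map (HomologicalComplex.singleObjXSelf
          (ComplexShape.up ℤ) 0 _).inv)).1 (hx.trans (map_zero _).symm)
      refine (T.range_d F n _).2 ?_
      rw [map_comp_apply, T.compat]
      exact Submodule.smul_mono_left ((Ideal.pow_le_pow_right (by omega)).trans hc) (hker _ _ hx')
    refine ⟨n + c, Nat.le_add_right _ _, fun x hx => ?_⟩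
    obtain ⟨w, hw⟩ := key (p + -i) (i + -i) (by omega) (by omega) x hx
    refine ⟨(-i).negOnePow • w, ?_⟩
    change (-i).negOnePow • (F.map ((T.S.obj (op n)).d (p + -i) (i + -i))) ((-i).negOnePow • w) = _
    rw [Units.smul_def, Units.smul_def, map_zsmul, hw, smul_smul, ← Units.val_mul, Int.units_mul_self]
    simp only [Units.val_one, one_smul]
    rfl

end Elements

/-- tensoring on the left with a module in degree `i` -/
noncomputable def singleTensorIso (M : ModuleCat.{u} A) (i : ℤ) :
    (tensorLeft M).mapHomologicalComplex (ComplexShape.up ℤ) ⋙ CategoryTheory.shiftFunctor (DRing.Cx A) (-i) ≅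
      tensorLeft ((HomologicalComplex.single (ModuleCat.{u} A) (ComplexShape.up ℤ) i).obj M : DRing.Cx A) :=
  NatIso.ofComponents (fun X =>
    (CategoryTheory.shiftFunctor (DRing.Cx A) (-i)).mapIso ((NatIso.mapHomologicalComplex ((curriedTensor (ModuleCat.{u} A)).mapIso
      (HomologicalComplex.singleObjXSelf (ComplexShape.up ℤ) i M).symm) (ComplexShape.up ℤ)).app X) ≪≫
    Groth.L10.DTen.Single.iso (curriedTensor (ModuleCat.{u} A)) _ i
      (fun p hp => HomologicalComplex.isZero_single_obj_X _ _ _ _ hp) X) fun {X Y} f => by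
    ext k : 1
    simp only [Iso.trans_hom, Functor.mapIso_hom, HomologicalComplex.comp_f, Functor.comp_map, Iso.app_hom]
    change (M ◁ f.f (k + -i)) ≫ ((HomologicalComplex.singleObjXSelf (ComplexShape.up ℤ) i M).inv ▷ Y.X (k + -i)) ≫
        HomologicalComplex.ιMapBifunctor _ Y (curriedTensor (ModuleCat.{u} A)) (ComplexShape.up ℤ) i (k + -i) k _ =
      (((HomologicalComplex.singleObjXSelf (ComplexShape.up ℤ) i M).inv ▷ X.X (k + -i)) ≫
        HomologicalComplex.ιMapBifunctor _ X (curriedTensor (ModuleCat.{u} A)) (ComplexShape.up ℤ) i (k + -i) k _) ≫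
        (HomologicalComplex.mapBifunctorMap (𝟙 _) f (curriedTensor (ModuleCat.{u} A)) (ComplexShape.up ℤ)).f k
    rw [Category.assoc, HomologicalComplex.ι_mapBifunctorMap]
    simp [whisker_exchange_assoc]

variable (K : DRing.Cx A)

/-- pro-acyclicity of the comparison after tensoring -/
def PA : Prop := ConeAcyclic (Functor.whiskerRight (toAdic T hfs) (tensorLeft K))

theorem coneAcyclic_of_iso {P R P' R' : Sys A} {ψ : P ⟶ R} {ψ' : P' ⟶ R'} (a : P ≅ P') (b : R ≅ R')
    (h : ψ ≫ b.hom = a.hom ≫ ψ') (H : ConeAcyclic ψ) : ConeAcyclic ψ' := by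
  intro k n
  obtain ⟨m, hm, hz⟩ := H k n
  refine ⟨m, hm, ?_⟩
  let e := Functor.whiskerRight (coneHom a.hom b.hom h)
    (HomologicalComplex.homologyFunctor (ModuleCat.{u} A) (ComplexShape.up ℤ) k)
  haveI : ∀ j, IsIso ((coneHom a.hom b.hom h).app j) := fun j =>
    ⟨(coneHom a.inv b.inv (by rw [Iso.eq_inv_comp, ← Category.assoc, ← h, Category.assoc, b.hom_inv_id,
      Category.comp_id])).app j, by
        dsimp only [coneHom]
        rw [← mappingCone.map_comp]
        simp only [Iso.hom_inv_id_app, mappingCone.map_id], by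
        dsimp only [coneHom]
        rw [← mappingCone.map_comp]
        simp only [Iso.inv_hom_id_app, mappingCone.map_id]⟩
  have hn := e.naturality (homOfLE hm).op
  rw [show (coneSys ψ ⋙ _).map (homOfLE hm).op = 0 from hz, zero_comp] at hn
  haveI : IsIso (e.app (op m)) := by dsimp [e]; infer_instance
  exact (cancel_epi (e.app (op m))).1 (hn.symm.trans comp_zero.symm)

include hfs in
theorem pa_single [IsNoetherianRing A] (hfg : Ideal.span {g | g ∈ fs} = I) (M : ModuleCat.{u} A)
    [Module.Finite A M] (i : ℤ) :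
    PA T hfs ((HomologicalComplex.single (ModuleCat.{u} A) (ComplexShape.up ℤ) i).obj M) := by
  let F := tensorLeft M
  haveI : IsNoetherian A (F.obj (ModuleCat.of A A)) :=
    isNoetherian_of_linearEquiv (TensorProduct.rid A M).symm
  refine coneAcyclic_of_iso (Functor.isoWhiskerLeft T.S (singleTensorIso M i))
    (Functor.isoWhiskerLeft (adicCx I) (singleTensorIso M i)) ?_
    (coneAcyclic_functor T hfs F hfg (fun n => ?_) (fun n x hx => ?_) i)
  · ext n : 2
    exact (singleTensorIso M i).hom.naturality ((toAdic T hfs).app n)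
  · exact LinearMap.lTensor_surjective M (Submodule.mkQ_surjective _)
  · obtain ⟨y, rfl⟩ := ((lTensor_exact M (f := (I ^ (n + 1) • (⊤ : Submodule A A)).subtype)
      (g := (I ^ (n + 1) • (⊤ : Submodule A A)).mkQ) (LinearMap.exact_subtype_mkQ _)
      (Submodule.mkQ_surjective _)) x).1 hx
    clear hx
    induction y using TensorProduct.induction_on with
    | zero => simp
    | tmul x a =>
      have ha : (a : A) ∈ I ^ (n + 1) :=
        (Submodule.smul_le (P := (I ^ (n + 1) : Submodule A A))).2
          (fun r hr s _ => Ideal.mul_mem_right _ _ hr) a.2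
      change (x ⊗ₜ[A] (a : A) : M ⊗[A] A) ∈ _
      generalize (a : A) = c at ha ⊢
      have : (x ⊗ₜ[A] c : M ⊗[A] A) = c • (x ⊗ₜ[A] (1 : A)) := by
        rw [TensorProduct.smul_tmul', TensorProduct.smul_tmul, smul_eq_mul, mul_one]
      rw [this]
      exact Submodule.smul_mem_smul ha trivial
    | add a b ha hb => rw [map_add]; exact Submodule.add_mem _ ha hb

instance additive_tensorRight (G : DRing.Cx A) : (tensorRight G : DRing.Cx A ⥤ DRing.Cx A).Additive :=
  Functor.additive_of_iso (Groth.L10.DTen.flipIso G).symm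

instance preservesZero_tensorRight (G : DRing.Cx A) :
    (tensorRight G : DRing.Cx A ⥤ DRing.Cx A).PreservesZeroMorphisms :=
  Functor.preservesZeroMorphisms_of_additive _

include hfs in
theorem pa_extension (S : ShortComplex (DRing.Cx A))
    (σ : ∀ q, (S.map (HomologicalComplex.eval (ModuleCat.{u} A) (ComplexShape.up ℤ) q)).Splitting)
    (h₁ : PA T hfs S.X₁) (h₃ : PA T hfs S.X₃) : PA T hfs S.X₂ := by
  have hG : ∀ G : DRing.Cx A, (S.map (tensorRight G)).ShortExact := fun G =>
    ShortComplex.shortExact_of_iso (S.mapNatIso (Groth.L10.DTen.flipIso G)).symm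
      (Groth.L10.DTen.shortExact_tensorLeft G S σ)
  intro k
  let u := toAdic T hfs
  let a := fun {X Y : DRing.Cx A} (f : X ⟶ Y) => coneHom
    (ψ := Functor.whiskerRight u (tensorLeft X)) (ψ' := Functor.whiskerRight u (tensorLeft Y))
    (Functor.whiskerLeft T.S ((tensoringLeft _).map f)) (Functor.whiskerLeft (adicCx I) ((tensoringLeft _).map f))
    (by ext n : 2; exact whisker_exchange f (u.app n))
  refine isProZero_middle (Functor.whiskerRight (a S.f) _) (Functor.whiskerRight (a S.g) _) (fun n => ?_)
    (fun n => ?_) (h₁ k) (h₃ k)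
  · obtain ⟨w, hw⟩ := shortExact_cone (hG (T.S.obj (op n))) (hG ((adicCx I).obj (op n)))
      (S.mapNatTrans ((tensoringRight _).map (u.app (op n))))
    exact ((HomologicalComplex.homologyFunctor (ModuleCat.{u} A) (ComplexShape.up ℤ) k).map_comp _ _).symm.trans
      ((congrArg _ w).trans (Functor.map_zero _ _ _))
  · obtain ⟨w, hw⟩ := shortExact_cone (hG (T.S.obj (op n))) (hG ((adicCx I).obj (op n)))
      (S.mapNatTrans ((tensoringRight _).map (u.app (op n))))
    exact hw.homology_exact₂ k

theorem pa_of_isZero {K : DRing.Cx A} (hK : IsZero K) : PA T hfs K := fun k n => ⟨n, le_rfl, by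
  have h1 : IsZero ((coneSys (Functor.whiskerRight (toAdic T hfs) (tensorLeft K))).obj (op n)) := by
    have hz : ∀ G : DRing.Cx A, IsZero ((tensorLeft K).obj G) := fun G => (tensorRight G).map_isZero hK
    rw [IsZero.iff_id_eq_zero]
    ext q : 1
    refine IsZero.eq_of_src ?_ _ _
    rw [mappingCone.isZero_X_iff]
    exact ⟨(HomologicalComplex.eval _ _ _).map_isZero (hz _), (HomologicalComplex.eval _ _ _).map_isZero (hz _)⟩
  exact ((HomologicalComplex.homologyFunctor (ModuleCat.{u} A) (ComplexShape.up ℤ) k).map_isZero h1).eq_of_src _ _⟩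

include hfs in
theorem pa_bounded [IsNoetherianRing A] (hfg : Ideal.span {g | g ∈ fs} = I) (K : DRing.Cx A) (a b : ℤ)
    (hK : DRing.VanishesOutside K a b) (hKf : ∀ i, Module.Finite A (K.X i)) : PA T hfs K := by
  suffices ∀ (k : ℕ) (a : ℤ) (K : DRing.Cx A), DRing.VanishesOutside K a (a + k - 1) →
      (∀ i, Module.Finite A (K.X i)) → PA T hfs K from
    this (b - a + 1).toNat a K (fun i hi => hK i (by omega)) hKf
  intro k
  induction k with
  | zero =>
    intro a K hK _
    refine pa_of_isZero T hfs ?_
    rw [IsZero.iff_id_eq_zero]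
    ext i : 1
    exact (hK i (by omega)).eq_of_src _ _
  | succ k ih =>
    intro a K hK hKf
    let ι := Groth.L02.PC.truncι K (a + 1)
    have hbij : ∀ i, a + 1 ≤ i → IsIso (ι.f i) := fun i hi =>
      (ConcreteCategory.isIso_iff_bijective _).2 (Groth.L02.PC.truncι_bijective K (a + 1) hi)
    haveI : ∀ i, Mono (ι.f i) := fun i => ConcreteCategory.mono_of_injective _ Subtype.val_injective
    haveI : Mono ι := HomologicalComplex.mono_of_mono_f ι inferInstance
    let S : ShortComplex (DRing.Cx A) := ShortComplex.mk ι (cokernel.π ι) (cokernel.condition ι)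
    have hS : S.ShortExact := { exact := S.exact_of_g_is_cokernel (cokernelIsCokernel ι) }
    have hSi : ∀ i, (S.map (HomologicalComplex.eval _ _ i)).ShortExact := fun i =>
      hS.map_of_exact (HomologicalComplex.eval (ModuleCat.{u} A) (ComplexShape.up ℤ) i)
    have hout : ∀ i, i ≠ a → IsZero (S.X₃.X i) := fun i hi => by
      haveI := (hSi i).epi_g
      by_cases hia : a + 1 ≤ i
      · haveI := hbij i hia
        exact IsZero.of_epi_eq_zero (S.map (HomologicalComplex.eval _ _ i)).g
          ((cancel_epi (ι.f i)).1 (((S.map (HomologicalComplex.eval _ _ i)).zero).trans comp_zero.symm))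
      · exact IsZero.of_epi (S.map (HomologicalComplex.eval _ _ i)).g (hK i (Or.inl (by omega)))
    have hXa : IsIso (S.g.f a) := by
      haveI : Mono (S.g.f a) := (hSi a).exact.mono_g
        ((Groth.L02.PC.isZero_trunc_X K (a + 1) (i := a) (by omega)).eq_of_src _ _)
      haveI : Epi (S.g.f a) := (hSi a).epi_g
      exact isIso_of_mono_of_epi _
    let σ : ∀ q, (S.map (HomologicalComplex.eval (ModuleCat.{u} A) (ComplexShape.up ℤ) q)).Splitting := fun q =>
      if hq : a + 1 ≤ q then
        haveI := hbij q hq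
        ShortComplex.Splitting.ofExactOfRetraction _ (hSi q).exact (inv (ι.f q)) (IsIso.hom_inv_id (ι.f q))
          (hSi q).epi_g
      else
        haveI : Mono (S.map (HomologicalComplex.eval (ModuleCat.{u} A) (ComplexShape.up ℤ) q)).g :=
          (hSi q).exact.mono_g ((Groth.L02.PC.isZero_trunc_X K (a + 1) (i := q) (by omega)).eq_of_src _ _)
        haveI := (hSi q).epi_g
        haveI := isIso_of_mono_of_epi (S.map (HomologicalComplex.eval (ModuleCat.{u} A) (ComplexShape.up ℤ) q)).g
        ShortComplex.Splitting.ofExactOfSection _ (hSi q).exact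
          (inv (S.map (HomologicalComplex.eval (ModuleCat.{u} A) (ComplexShape.up ℤ) q)).g) (IsIso.inv_hom_id _)
          (hSi q).mono_f
    refine pa_extension T hfs S σ (ih (a + 1) _ (fun i hi => ?_) (fun i => ?_)) ?_
    · by_cases hia : a + 1 ≤ i
      · haveI := hbij i hia
        exact (hK i (by omega)).of_iso (asIso (ι.f i))
      · exact Groth.L02.PC.isZero_trunc_X K (a + 1) (by omega)
    · haveI := hKf i
      haveI : IsNoetherian A (K.X i) := isNoetherian_of_isNoetherianRing_of_finite A (K.X i)
      exact Module.Finite.of_injective (ι.f i).hom ((ModuleCat.mono_iff_injective (ι.f i)).1 inferInstance)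
    · haveI : S.X₃.IsStrictlyGE a := (CochainComplex.isStrictlyGE_iff _ _).2 fun i hi => hout i (by omega)
      haveI : S.X₃.IsStrictlyLE a := (CochainComplex.isStrictlyLE_iff _ _).2 fun i hi => hout i (by omega)
      obtain ⟨M, ⟨e⟩⟩ := CochainComplex.exists_iso_single S.X₃ a
      let eM : K.X a ≅ M := asIso (S.g.f a) ≪≫
        (HomologicalComplex.eval (ModuleCat.{u} A) (ComplexShape.up ℤ) a).mapIso e ≪≫
        HomologicalComplex.singleObjXSelf (ComplexShape.up ℤ) a M
      haveI : Module.Finite A M := haveI := hKf a; Module.Finite.equiv eM.toLinearEquiv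
      refine coneAcyclic_of_iso (Functor.isoWhiskerLeft T.S ((tensoringLeft _).mapIso e.symm))
        (Functor.isoWhiskerLeft (adicCx I) ((tensoringLeft _).mapIso e.symm)) ?_ (pa_single T hfs hfg M a)
      ext n : 2
      exact whisker_exchange e.inv ((toAdic T hfs).app n)

end Groth.L10.Adic
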