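/-
Pro-isomorphisms of inverse systems in a derived category detected on homology.
-/
import Groth.Agent.S6587
import Groth.Agent.L10.DerTrunc
import Groth.Prelude.Def_DerCA
import Mathlib.Algebra.Homology.DerivedCategory.HomologySequence
import Mathlib.CategoryTheory.Abelian.Refinements
import Mathlib.CategoryTheory.Functor.OfSequence

set_option autoImplicit false
set_option linter.style.haveILetI false
set_option backward.defeqAttrib.useBackward true
set_option backward.isDefEq.respectTransparency false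

universe w v u v' u'

open CategoryTheory CategoryTheory.Limits CategoryTheory.Pretriangulated Opposite

namespace Groth.L10.ProD

section General

variable {C : Type u'} [Category.{v'} C]

theorem tr_trans (X : ARSys.PS C) {n m k : ℕ} (h : n ≤ m) (h' : m ≤ k) :
    ARSys.tr X h' ≫ ARSys.tr X h = ARSys.tr X (h.trans h') := (X.map_comp _ _).symm

theorem tr_nat {X Y : ARSys.PS C} (f : X ⟶ Y) {n m : ℕ} (h : n ≤ m) :
    ARSys.tr X h ≫ f.app (op n) = f.app (op m) ≫ ARSys.tr Y h := f.naturality (homOfLE h).op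

theorem isProIso_of_isIso {X Y : ARSys.PS C} (f : X ⟶ Y) [∀ n, IsIso (f.app (op n))] : DerCA.IsProIso f :=
  fun n => ⟨n, le_rfl, inv (f.app (op n)), by simp [ARSys.tr], by simp [ARSys.tr]⟩

theorem isProIso_map {D : Type u} [Category.{v} D] (F : C ⥤ D) {X Y : ARSys.PS C} (f : X ⟶ Y)
    (hf : DerCA.IsProIso f) : DerCA.IsProIso (Functor.whiskerRight f F) := fun n => by
  obtain ⟨m, h, b, h1, h2⟩ := hf n
  exact ⟨m, h, F.map b, (F.map_comp _ _).symm.trans (congrArg F.map h1),
    (F.map_comp _ _).symm.trans (congrArg F.map h2)⟩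

theorem isProIso_comp {X Y Z : ARSys.PS C} {f : X ⟶ Y} {g : Y ⟶ Z} (hf : DerCA.IsProIso f)
    (hg : DerCA.IsProIso g) : DerCA.IsProIso (f ≫ g) := fun n => by
  obtain ⟨m, h, b, h1, h2⟩ := hf n
  obtain ⟨k, h', c, h3, h4⟩ := hg m
  refine ⟨k, h.trans h', c ≫ b, ?_, ?_⟩
  · rw [NatTrans.comp_app, Category.assoc, ← Category.assoc (g.app _) c b, h3, ← tr_trans X h h', ← h1,
      ← Category.assoc (ARSys.tr X h'), tr_nat f, Category.assoc]
  · rw [NatTrans.comp_app, Category.assoc, ← Category.assoc b, h2, tr_nat g, ← Category.assoc, h4, tr_trans]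

/-- cancelling a pro-isomorphism on the left -/
theorem isProIso_of_comp {X Y Z : ARSys.PS C} {f : X ⟶ Y} {g : Y ⟶ Z} (hf : DerCA.IsProIso f)
    (hfg : DerCA.IsProIso (f ≫ g)) : DerCA.IsProIso g := fun n => by
  obtain ⟨m, h, b, h1, h2⟩ := hfg n
  obtain ⟨p, h', c, h3, h4⟩ := hf m
  rw [NatTrans.comp_app, Category.assoc] at h1
  rw [NatTrans.comp_app] at h2
  refine ⟨p, h.trans h', ARSys.tr Z h' ≫ b ≫ f.app (op n), ?_, ?_⟩
  · rw [← Category.assoc, ← tr_nat g, ← h4]
    simp only [Category.assoc]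
    rw [reassoc_of% h1, tr_nat f, ← Category.assoc, h4, tr_trans]
  · simp only [Category.assoc]
    rw [h2, tr_trans]

end General

section Derived

variable {A : Type u} [Category.{v} A] [Abelian A] [HasDerivedCategory.{w} A]

local notation "H" => DerivedCategory.homologyFunctor A

/-- a bounded system with pro-zero homology is pro-zero -/
theorem isProZero_of_homology (Z : ARSys.PS (DerivedCategory A)) (a b : ℤ)
    (hbd : ∀ (n : ℕ) (i : ℤ), (i < a ∨ b < i) → IsZero ((H i).obj (Z.obj (op n))))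
    (hH : ∀ i, a ≤ i → i ≤ b → DerCA.IsProZero (Z ⋙ H i)) : DerCA.IsProZero Z := by
  let t : Triangulated.TStructure (DerivedCategory A) := DerivedCategory.TStructure.t
  -- transition maps factor through lower and lower truncations
  have key : ∀ (k : ℕ) (n : ℕ), ∃ (m : ℕ) (h : n ≤ m) (W : DerivedCategory A) (_ : W.IsLE (b - k))
      (l : Z.obj (op m) ⟶ W) (r : W ⟶ Z.obj (op n)), ARSys.tr Z h = l ≫ r := by
    intro k
    induction k with
    | zero =>
      intro n
      refine ⟨n, le_rfl, Z.obj (op n), (DerivedCategory.isLE_iff _ _).2 fun i hi => hbd n i (Or.inr (by omega)),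
        ARSys.tr Z le_rfl, 𝟙 _, (Category.comp_id _).symm⟩
    | succ k ih =>
      intro n
      let c : ℤ := b - k
      obtain ⟨n', hn', hz⟩ : ∃ (n' : ℕ) (h : n ≤ n'), (Z ⋙ H c).map (homOfLE h).op = 0 := by
        by_cases hc : a ≤ c
        · exact hH c hc (by omega) n
        · exact ⟨n, le_rfl, (hbd n c (Or.inl (by omega))).eq_of_tgt _ _⟩
      obtain ⟨m, hm, W, hW, l, r, hlr⟩ := ih n'
      let k' := r ≫ ARSys.tr Z hn'
      have h0 : k' ≫ (t.truncGEπ c).app (Z.obj (op n)) = 0 := by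
        refine Groth.L10.eq_zero_of_H_eq_zero c _ ?_
        have hz' : (H c).map (ARSys.tr Z hn') = 0 := hz
        rw [Functor.map_comp, Functor.map_comp, hz', comp_zero, zero_comp]
      obtain ⟨s, hs⟩ := Triangle.coyoneda_exact₂ _ (t.triangleLTGE_distinguished c (Z.obj (op n))) k' h0
      refine ⟨m, hn'.trans hm, (t.truncLT c).obj (Z.obj (op n)),
        t.isLE_truncLT_obj _ _ _ (by push_cast; omega), l ≫ s, (t.truncLTι c).app _, ?_⟩
      have hs' : k' = s ≫ (t.truncLTι c).app (Z.obj (op n)) := hs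
      rw [← tr_trans Z hn' hm, hlr, Category.assoc, Category.assoc, ← hs']
  intro n
  obtain ⟨m, h, W, hW, l, r, hlr⟩ := key (b - a + 1).toNat n
  haveI : (Z.obj (op n)).IsGE a := (DerivedCategory.isGE_iff _ _).2 fun i hi => hbd n i (Or.inl hi)
  haveI := hW
  exact ⟨m, h, by rw [hlr, t.zero r (b - ((b - a + 1).toNat : ℤ)) a (by omega), comp_zero]⟩

/-- choosing a system of third objects -/
theorem exists_third {X Y : ARSys.PS (DerivedCategory A)} (f : X ⟶ Y) :
    ∃ (Z : ARSys.PS (DerivedCategory A)) (g : Y ⟶ Z) (h : Z ⟶ X ⋙ shiftFunctor (DerivedCategory A) (1 : ℤ)),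
      ∀ n : ℕ, Triangle.mk (f.app (op n)) (g.app (op n)) (h.app (op n)) ∈ distTriang (DerivedCategory A) := by
  choose Z g h hT using fun n : ℕ => distinguished_cocone_triangle (f.app (op n))
  choose c hc₁ hc₂ using fun n : ℕ => complete_distinguished_triangle_morphism _ _ (hT (n + 1)) (hT n)
    (X.map (homOfLE (Nat.le_succ n)).op) (Y.map (homOfLE (Nat.le_succ n)).op) (tr_nat f (Nat.le_succ n)).symm
  refine ⟨Functor.ofOpSequence c, NatTrans.ofOpSequence (fun n => g n) (fun n => ?_),
    NatTrans.ofOpSequence (fun n => h n) (fun n => ?_), fun n => hT n⟩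
  · rw [Functor.ofOpSequence_map_homOfLE_succ]
    exact (hc₁ n).symm
  · rw [Functor.ofOpSequence_map_homOfLE_succ]
    exact (hc₂ n).symm

/-- pro-isomorphisms are detected on the homology of bounded systems -/
theorem isProIso_of_homology {X Y : ARSys.PS (DerivedCategory A)} (f : X ⟶ Y) (a b : ℤ)
    (hX : ∀ (n : ℕ) (i : ℤ), i < a ∨ b < i → IsZero ((H i).obj (X.obj (op n))))
    (hY : ∀ (n : ℕ) (i : ℤ), i < a ∨ b < i → IsZero ((H i).obj (Y.obj (op n))))
    (hH : ∀ i : ℤ, DerCA.IsProIso (Functor.whiskerRight f (H i))) :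
    DerCA.IsProIso f := by
  obtain ⟨Z, g, h, hT⟩ := exists_third f
  refine Groth.Agent.S6587.result X Y Z f g h hT (isProZero_of_homology Z (a - 1) b (fun n i hi => ?_) ?_)
  · exact (DerivedCategory.HomologySequence.exact₃ _ (hT n) i (i + 1) rfl).isZero_X₂
      ((hY n i (by omega)).eq_of_src _ _) ((hX n (i + 1) (by omega)).eq_of_tgt _ _)
  · intro i _ _ n
    obtain ⟨n', hn', b₁, hb₁, hb₁'⟩ := hH i n
    obtain ⟨m, hm, b₂, hb₂, hb₂'⟩ := hH (i + 1) n'
    refine ⟨m, hn'.trans hm, ?_⟩
    change (H i).map (ARSys.tr Z (hn'.trans hm)) = 0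
    let δ : ∀ k, (H i).obj (Z.obj (op k)) ⟶ (H (i + 1)).obj (X.obj (op k)) := fun k =>
      DerivedCategory.HomologySequence.δ (Triangle.mk (f.app (op k)) (g.app (op k)) (h.app (op k))) i (i + 1) rfl
    have hδ : δ m ≫ (H (i + 1)).map (ARSys.tr X hm) = (H i).map (ARSys.tr Z hm) ≫ δ n' :=
      ((DerivedCategory.homologyFunctor A 0).homologySequenceδ_naturality _ _
        (Triangle.homMk (Triangle.mk (f.app (op m)) (g.app (op m)) (h.app (op m)))
          (Triangle.mk (f.app (op n')) (g.app (op n')) (h.app (op n')))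
          (ARSys.tr X hm) (ARSys.tr Y hm) (ARSys.tr Z hm)
          (tr_nat f hm).symm (tr_nat g hm).symm (tr_nat h hm).symm) i (i + 1) rfl).symm
    have hδ0 : δ m ≫ (H (i + 1)).map (f.app (op m)) = 0 :=
      DerivedCategory.HomologySequence.δ_comp _ (hT m) i (i + 1) rfl
    have hz : (H i).map (ARSys.tr Z hm) ≫ δ n' = 0 := by
      rw [← hδ]
      change δ m ≫ ARSys.tr (X ⋙ H (i + 1)) hm = 0
      rw [← hb₂]
      exact (Category.assoc _ _ _).symm.trans ((congrArg (· ≫ b₂) hδ0).trans zero_comp)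
    obtain ⟨W, π, _, w, hw⟩ := (DerivedCategory.HomologySequence.exact₃ _ (hT n') i (i + 1) rfl).exact_up_to_refinements
      ((H i).map (ARSys.tr Z hm)) hz
    have hw' : π ≫ (H i).map (ARSys.tr Z hm) = w ≫ (H i).map (g.app (op n')) := hw
    rw [← cancel_epi π, comp_zero, ← tr_trans Z hn' hm, Functor.map_comp, reassoc_of% hw', ← Functor.map_comp,
      ← tr_nat g hn', Functor.map_comp]
    have hfg : (H i).map (f.app (op n)) ≫ (H i).map (g.app (op n)) = 0 :=
      ((H i).map_comp _ _).symm.trans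
        ((congrArg (H i).map (comp_distTriang_mor_zero₁₂ _ (hT n))).trans ((H i).map_zero _ _))
    have hb₁'' : (H i).map (ARSys.tr Y hn') = b₁ ≫ (H i).map (f.app (op n)) := hb₁'.symm
    rw [hb₁'', Category.assoc, hfg, comp_zero, comp_zero]

end Derived

end Groth.L10.ProD
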