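/-
The derived and plain adic completions of a bounded complex of finite modules agree as pro-objects.
-/
import Groth.Agent.L10.DTen.Adic.Ghost
import Groth.Agent.L10.DTen.Adic.Devissage

set_option autoImplicit false
set_option linter.style.haveILetI false
set_option backward.defeqAttrib.useBackward true
set_option backward.isDefEq.respectTransparency false
set_option backward.isDefEq.respectTransparency.types false

universe u

open CategoryTheory CategoryTheory.Limits Opposite CochainComplex MonoidalCategory CategoryTheory.Pretriangulated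

attribute [local instance] HasDerivedCategory.standard

namespace Groth.L10.Adic

variable {A : Type u} [CommRing A]

/-- the tensor product of complexes bounded on both sides is bounded on both sides -/
theorem isZero_tensor_X (K X : DRing.Cx A) {a b c d : ℤ} (hK : DRing.VanishesOutside K a b)
    (hX : ∀ i, (i < c ∨ d < i) → IsZero (X.X i)) (k : ℤ) (hk : k < a + c ∨ b + d < k) :
    IsZero ((K ⊗ X).X k) := by
  rw [IsZero.iff_id_eq_zero]
  refine HomologicalComplex.mapBifunctor.hom_ext fun p q h => ?_
  have hpq : p + q = k := h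
  refine IsZero.eq_of_src ?_ _ _
  by_cases hp : p < a ∨ b < p
  · exact ((curriedTensor (ModuleCat.{u} A)).flip.obj (X.X q)).map_isZero (hK p hp)
  · exact ((curriedTensor (ModuleCat.{u} A)).obj (K.X p)).map_isZero (hX q (by omega))

/-- a map of systems of complexes with pro-acyclic cones is a pro-isomorphism in the derived category -/
theorem isProIso_Q_of_coneAcyclic {P R : Sys A} (ψ : P ⟶ R) (c d : ℤ)
    (hP : ∀ n i, (i < c ∨ d < i) → IsZero ((P.obj (op n)).X i))
    (hR : ∀ n i, (i < c ∨ d < i) → IsZero ((R.obj (op n)).X i)) (H : ConeAcyclic ψ) :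
    DerCA.IsProIso (Functor.whiskerRight ψ (DerivedCategory.Q : DRing.Cx A ⥤ Dual.D A)) := by
  let inrS : R ⟶ coneSys ψ :=
    { app := fun n => mappingCone.inr (ψ.app n)
      naturality := fun n m i => by
        ext q : 1
        simp [coneSys, mappingCone.map] }
  let h : coneSys ψ ⋙ DerivedCategory.Q ⟶ (P ⋙ DerivedCategory.Q) ⋙ CategoryTheory.shiftFunctor (Dual.D A) (1 : ℤ) :=
    { app := fun n => ((DerivedCategory.Q : DRing.Cx A ⥤ Dual.D A).mapTriangle.obj
        (mappingCone.triangle (ψ.app n))).mor₃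
      naturality := fun n m i => (((DerivedCategory.Q : DRing.Cx A ⥤ Dual.D A).mapTriangle.map
        (mappingCone.triangleMap (ψ.app n) (ψ.app m) (P.map i) (R.map i) (ψ.naturality i).symm)).comm₃).symm }
  refine Groth.Agent.S6587.result _ _ _ (Functor.whiskerRight ψ DerivedCategory.Q)
    (Functor.whiskerRight inrS DerivedCategory.Q) h (fun n => Groth.L02.PC.mappingCone_distinguished (ψ.app (op n)))
    (Groth.L10.ProD.isProZero_of_homology _ (c - 1) d (fun n i hi => ?_) fun i _ _ n => ?_)
  · refine (Groth.L02.PC.isZero_HH_Q_iff (mappingCone (ψ.app (op n))) i).2 ?_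
    rw [← HomologicalComplex.exactAt_iff_isZero_homology]
    exact HomologicalComplex.ExactAt.of_isZero
      ((mappingCone.isZero_X_iff _ i).2 ⟨hP n (i + 1) (by omega), hR n i (by omega)⟩)
  · obtain ⟨m, hm, hz⟩ := H i n
    refine ⟨m, hm, ?_⟩
    change (DerivedCategory.homologyFunctor (ModuleCat.{u} A) i).map (DerivedCategory.Q.map (ARSys.tr (coneSys ψ) hm)) = 0
    have := (DerivedCategory.homologyFunctorFactors (ModuleCat.{u} A) i).hom.naturality (ARSys.tr (coneSys ψ) hm)
    have hz' : (HomologicalComplex.homologyFunctor (ModuleCat.{u} A) (ComplexShape.up ℤ) i).map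
        (ARSys.tr (coneSys ψ) hm) = 0 := hz
    rw [hz', comp_zero] at this
    exact zero_of_comp_mono _ this

variable [IsNoetherianRing A]

theorem exists_list (I : Ideal A) : ∃ fs : List A, Ideal.span {g | g ∈ fs} = I := by
  obtain ⟨s, hs⟩ := IsNoetherian.noetherian I
  exact ⟨s.toList, by simpa using hs⟩

variable [_root_.DTen.HasLTen A]

theorem isProIso_LTen_adicSystem (I : Ideal A) (K : DRing.Cx A) (a b : ℤ) (hK : DRing.VanishesOutside K a b)
    (hKf : ∀ i : ℤ, Module.Finite A (K.X i)) :
    DerCA.IsProIso (Functor.whiskerLeft (adicCx I) (_root_.DTen.εLeft A K)) := by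
  obtain ⟨fs, hfg⟩ := exists_list I
  have hfs : ∀ g ∈ fs, g ∈ I := fun g hg => hfg ▸ Ideal.subset_span hg
  obtain ⟨T⟩ := nonempty_stage fs
  let u := toAdic T hfs
  have hTv : ∀ n i, (i < -(fs.length : ℤ) ∨ 0 < i) → IsZero ((T.S.obj (op n)).X i) := T.vanish
  have hYv : ∀ (n : ℕ) (i : ℤ), (i < -(fs.length : ℤ) ∨ 0 < i) → IsZero (((adicCx I).obj (op n)).X i) :=
    fun n i hi => HomologicalComplex.isZero_single_obj_X _ _ _ _ (by omega)
  -- tensoring with a bounded complex of finite modules
  have htens : ∀ (L : DRing.Cx A) (a b : ℤ), DRing.VanishesOutside L a b → (∀ i, Module.Finite A (L.X i)) →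
      DerCA.IsProIso (Functor.whiskerRight (Functor.whiskerRight u (tensorLeft L))
        (DerivedCategory.Q : DRing.Cx A ⥤ Dual.D A)) := fun L a b hL hLf =>
    isProIso_Q_of_coneAcyclic _ (a + -(fs.length : ℤ)) (b + 0) (fun n => isZero_tensor_X L _ hL (hTv n))
      (fun n => isZero_tensor_X L _ hL (hYv n)) (pa_bounded T hfs hfg L a b hL hLf)
  -- the comparison itself
  let U : DRing.Cx A := 𝟙_ (DRing.Cx A)
  have hU : DRing.VanishesOutside U 0 0 := fun i hi =>
    HomologicalComplex.isZero_single_obj_X (ComplexShape.up ℤ) 0 (𝟙_ (ModuleCat.{u} A)) i (by omega)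
  have hUf : ∀ i, Module.Finite A (U.X i) := fun i => by
    by_cases hi : i = 0
    · subst hi
      exact Module.Finite.equiv
        (HomologicalComplex.singleObjXSelf (ComplexShape.up ℤ) 0 (𝟙_ (ModuleCat.{u} A))).toLinearEquiv.symm
    · haveI : Subsingleton (U.X i) := ModuleCat.subsingleton_of_isZero (hU i (by omega))
      infer_instance
  have hu : DerCA.IsProIso (Functor.whiskerRight u (DerivedCategory.Q : DRing.Cx A ⥤ Dual.D A)) := by
    let η := fun Z : Sys A => Functor.whiskerRight (Functor.whiskerLeft Z (leftUnitorNatIso (DRing.Cx A)).hom)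
      (DerivedCategory.Q : DRing.Cx A ⥤ Dual.D A)
    haveI : ∀ (Z : Sys A) n, IsIso ((η Z).app (op n)) := fun Z n => by dsimp [η]; infer_instance
    refine Groth.L10.ProD.isProIso_of_comp (f := η T.S) (Groth.L10.ProD.isProIso_of_isIso _) ?_
    have hsq : Functor.whiskerRight (Functor.whiskerRight u (tensorLeft U)) DerivedCategory.Q ≫ η (adicCx I) =
        η T.S ≫ Functor.whiskerRight u (DerivedCategory.Q : DRing.Cx A ⥤ Dual.D A) := by
      ext n
      exact ((DerivedCategory.Q : DRing.Cx A ⥤ Dual.D A).map_comp _ _).symm.trans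
        ((congrArg DerivedCategory.Q.map ((leftUnitorNatIso (DRing.Cx A)).hom.naturality (u.app n))).trans
          ((DerivedCategory.Q : DRing.Cx A ⥤ Dual.D A).map_comp _ _))
    exact hsq ▸ Groth.L10.ProD.isProIso_comp (htens U 0 0 hU hUf) (Groth.L10.ProD.isProIso_of_isIso _)
  let G := (_root_.DTen.LTen A).obj (DerivedCategory.Q.obj K)
  have htop : DerCA.IsProIso (Functor.whiskerRight u (DerivedCategory.Q ⋙ G)) := by
    intro n
    obtain ⟨m, hm, c, h1, h2⟩ := Groth.L10.ProD.isProIso_map G _ hu n
    exact ⟨m, hm, c, h1, h2⟩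
  haveI : ∀ n, IsIso ((Functor.whiskerLeft T.S (_root_.DTen.εLeft A K)).app (op n)) := fun n =>
    Groth.L10.DTen.isIso_ε A K (T.S.obj (op n)) (Or.inr (Groth.L10.KFlat.of_bounded _ 0
      (fun i hi => hTv n i (Or.inr hi)) (T.flat n)))
  refine Groth.L10.ProD.isProIso_of_comp htop ?_
  have hsq : Functor.whiskerLeft T.S (_root_.DTen.εLeft A K) ≫
      Functor.whiskerRight u (tensorLeft K ⋙ DerivedCategory.Q) =
      Functor.whiskerRight u (DerivedCategory.Q ⋙ G) ≫ Functor.whiskerLeft (adicCx I) (_root_.DTen.εLeft A K) := by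
    ext n
    exact ((_root_.DTen.εLeft A K).naturality (u.app n)).symm
  refine hsq ▸ Groth.L10.ProD.isProIso_comp (Groth.L10.ProD.isProIso_of_isIso _) fun n => ?_
  obtain ⟨m, hm, c, h1, h2⟩ := htens K a b hK hKf n
  exact ⟨m, hm, c, h1, h2⟩

end Groth.L10.Adic
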