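/-
Powers of an ideal times a module factor through the derived tensor product with the ideal.
-/
import Groth.Agent.L10.DTen.Adic.Main
import Mathlib.Algebra.Homology.DerivedCategory.ShortExact

set_option autoImplicit false
set_option linter.style.haveILetI false
set_option backward.defeqAttrib.useBackward true
set_option backward.isDefEq.respectTransparency false
set_option backward.isDefEq.respectTransparency.types false

universe u

open CategoryTheory CategoryTheory.Limits Opposite CochainComplex MonoidalCategory CategoryTheory.Pretriangulated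
open scoped TensorProduct

attribute [local instance] HasDerivedCategory.standard

namespace Groth.L10.Adic

variable {A : Type u} [CommRing A]

/-- a module as a complex in degree zero -/
noncomputable abbrev sgc (A : Type u) [CommRing A] : ModuleCat.{u} A ⥤ DRing.Cx A :=
  HomologicalComplex.single (ModuleCat.{u} A) (ComplexShape.up ℤ) 0

theorem whiskerLeft_single_eq_zero (I : Ideal A) (M : Type u) [AddCommGroup M] [Module A M] (m : ℕ) :
    ((adicCx I).obj (op m) : DRing.Cx A) ◁
      ((sgc A).map (ModuleCat.ofHom (I ^ (m + 1) • (⊤ : Submodule A M)).subtype)) = 0 := by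
  have hmul : (((CohIII.adicSystem I (ModuleCat.of A A)).obj (op m)) ◁
      ModuleCat.ofHom (I ^ (m + 1) • (⊤ : Submodule A M)).subtype) = 0 := by
    have key : ∀ (a : A ⧸ I ^ (m + 1) • (⊤ : Submodule A A)) (x : M), x ∈ I ^ (m + 1) • (⊤ : Submodule A M) →
        a ⊗ₜ[A] x = 0 := fun a x hx => by
      obtain ⟨a, rfl⟩ := Submodule.mkQ_surjective _ a
      refine Submodule.smul_induction_on hx (fun r hr y _ => ?_) fun y z hy hz => ?_
      · rw [← TensorProduct.smul_tmul, ← map_smul]
        have : (Submodule.mkQ (I ^ (m + 1) • (⊤ : Submodule A A))) (r • a) = 0 :=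
          (Submodule.Quotient.mk_eq_zero _).2 (Submodule.smul_mem_smul hr trivial)
        rw [this, TensorProduct.zero_tmul]
      · rw [TensorProduct.tmul_add, hy, hz, add_zero]
    exact ModuleCat.MonoidalCategory.tensor_ext fun a x => key a x.1 x.2
  refine HomologicalComplex.hom_ext _ _ fun k => HomologicalComplex.mapBifunctor.hom_ext fun p q h => ?_
  change HomologicalComplex.ιMapBifunctor _ _ (curriedTensor (ModuleCat.{u} A)) (ComplexShape.up ℤ) p q k h ≫
    (HomologicalComplex.mapBifunctorMap (𝟙 _) _ (curriedTensor (ModuleCat.{u} A)) (ComplexShape.up ℤ)).f k = _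
  rw [HomologicalComplex.ι_mapBifunctorMap]
  by_cases hp : p = 0
  · by_cases hq : q = 0
    · subst hp hq
      simp only [HomologicalComplex.id_f, CategoryTheory.Functor.map_id, NatTrans.id_app, Category.id_comp,
        curriedTensor_obj_map, HomologicalComplex.single_map_f_self, MonoidalCategory.whiskerLeft_comp,
        Category.assoc]
      have hz : ((adicCx I).obj (op m)).X 0 ◁ ModuleCat.ofHom (I ^ (m + 1) • (⊤ : Submodule A M)).subtype = 0 := by
        have e := whisker_exchange (HomologicalComplex.singleObjXSelf (ComplexShape.up ℤ) 0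
          ((CohIII.adicSystem I (ModuleCat.of A A)).obj (op m))).hom
          (ModuleCat.ofHom (I ^ (m + 1) • (⊤ : Submodule A M)).subtype)
        rw [hmul, comp_zero] at e
        exact (cancel_mono ((HomologicalComplex.singleObjXSelf (ComplexShape.up ℤ) 0
          ((CohIII.adicSystem I (ModuleCat.of A A)).obj (op m))).hom ▷ ModuleCat.of A M)).1
            (e.trans zero_comp.symm)
      erw [reassoc_of% hz]
      simp
    · exact (((curriedTensor (ModuleCat.{u} A)).obj _).map_isZero
        (HomologicalComplex.isZero_single_obj_X _ _ _ _ hq)).eq_of_src _ _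
  · exact (((curriedTensor (ModuleCat.{u} A)).flip.obj _).map_isZero
      (HomologicalComplex.isZero_single_obj_X _ _ _ _ hp)).eq_of_src _ _

variable [IsNoetherianRing A] [_root_.DTen.HasLTen A]

theorem exists_factor (I : Ideal A) (M : Type u) [AddCommGroup M] [Module A M] [Module.Finite A M] :
    ∃ (n : ℕ) (_ : 0 < n) (g : DerivedCategory.Q.obj ((sgc A).obj (ModuleCat.of A ↥(I ^ n • (⊤ : Submodule A M)))) ⟶
      (_root_.DTen.LTen₂ A).obj (DerivedCategory.Q.obj ((sgc A).obj (ModuleCat.of A ↥I)),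
        DerivedCategory.Q.obj ((sgc A).obj (ModuleCat.of A M)))),
      g ≫ (_root_.DTen.LTen₂ A).map (Prod.mkHom
          (DerivedCategory.Q.map ((sgc A).map (ModuleCat.ofHom I.subtype))) (𝟙 _)) ≫
        (_root_.DTen.unitL A).app (DerivedCategory.Q.obj ((sgc A).obj (ModuleCat.of A M))) =
      DerivedCategory.Q.map ((sgc A).map (ModuleCat.ofHom (I ^ n • (⊤ : Submodule A M)).subtype)) := by
  let Kc : DRing.Cx A := (sgc A).obj (ModuleCat.of A M)
  let U : DRing.Cx A := 𝟙_ (DRing.Cx A)
  let Q₀ : DRing.Cx A ⥤ Dual.D A := DerivedCategory.Q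
  have hKf : ∀ i, Module.Finite A (Kc.X i) := fun i => by
    by_cases hi : i = 0
    · subst hi
      exact Module.Finite.equiv (HomologicalComplex.singleObjXSelf (ComplexShape.up ℤ) 0 _).toLinearEquiv.symm
    · haveI : Subsingleton (Kc.X i) :=
        ModuleCat.subsingleton_of_isZero (HomologicalComplex.isZero_single_obj_X _ _ _ _ hi)
      infer_instance
  obtain ⟨m, hm, b, hb, -⟩ := isProIso_LTen_adicSystem I Kc 0 0
    (fun i hi => HomologicalComplex.isZero_single_obj_X _ _ _ _ (by omega)) hKf 0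
  refine ⟨m + 1, Nat.succ_pos m, ?_⟩
  let q : ∀ n, U ⟶ (adicCx I).obj (op n) := fun n => (sgc A).map (mkI I n)
  let incl : (sgc A).obj (ModuleCat.of A ↥(I ^ (m + 1) • (⊤ : Submodule A M))) ⟶ Kc :=
    (sgc A).map (ModuleCat.ofHom (I ^ (m + 1) • (⊤ : Submodule A M)).subtype)
  haveI := Groth.L10.DTen.isIso_ε A U Kc (Or.inl Groth.L10.KFlat.isKFlat_unit)
  -- the inverse of the unit
  let w : Q₀.obj Kc ⟶ (_root_.DTen.LTen₂ A).obj (Q₀.obj U, Q₀.obj Kc) :=
    Q₀.map (λ_ Kc).inv ≫ inv ((_root_.DTen.ε A).app (U, Kc))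
  have hw : w ≫ (_root_.DTen.unitL A).app (Q₀.obj Kc) = 𝟙 _ := by
    rw [_root_.DTen.unitL_app]
    simp only [w]
    erw [Category.assoc, IsIso.inv_hom_id_assoc]
    rw [← Functor.map_comp, Iso.inv_hom_id, CategoryTheory.Functor.map_id]
  let P := fun n => (_root_.DTen.LTen₂ A).map (Prod.mkHom (Q₀.map (q n)) (𝟙 (Q₀.obj Kc)))
  have hzero : Q₀.map incl ≫ w ≫ P 0 = 0 := by
    haveI := Groth.L10.DTen.isIso_symm (A := A) (Q₀.obj Kc, Q₀.obj ((adicCx I).obj (op 0)))
    refine (cancel_mono ((_root_.DTen.symm A).app (Q₀.obj Kc, Q₀.obj ((adicCx I).obj (op 0))))).1 ?_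
    rw [zero_comp]
    have hq0 : q m ≫ (adicCx I).map (homOfLE (Nat.zero_le m)).op = q 0 :=
      ((sgc A).map_comp _ _).symm.trans (congrArg (sgc A).map (mkI_map I (Nat.zero_le m)))
    have h1 : P 0 ≫ (_root_.DTen.symm A).app (Q₀.obj Kc, Q₀.obj ((adicCx I).obj (op 0))) =
        (_root_.DTen.symm A).app (Q₀.obj Kc, Q₀.obj U) ≫
          ((_root_.DTen.LTen A).obj (Q₀.obj Kc)).map (Q₀.map (q m)) ≫
            ((_root_.DTen.εLeft A Kc).app ((adicCx I).obj (op m)) ≫ b) := by
      have hn := (_root_.DTen.symm A).naturality (X := (Q₀.obj Kc, Q₀.obj U))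
        (Y := (Q₀.obj Kc, Q₀.obj ((adicCx I).obj (op 0)))) (Prod.mkHom (𝟙 _) (Q₀.map (q 0)))
      refine hn.trans ?_
      congr 1
      have hb' : (_root_.DTen.εLeft A Kc).app ((adicCx I).obj (op m)) ≫ b =
          ((_root_.DTen.LTen A).obj (Q₀.obj Kc)).map (Q₀.map ((adicCx I).map (homOfLE (Nat.zero_le m)).op)) := hb
      rw [hb', ← Functor.map_comp, ← Functor.map_comp, hq0]
      rfl
    have h2 : ((_root_.DTen.LTen A).obj (Q₀.obj Kc)).map (Q₀.map (q m)) ≫
        (_root_.DTen.εLeft A Kc).app ((adicCx I).obj (op m)) =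
        (_root_.DTen.εLeft A Kc).app U ≫ Q₀.map (Kc ◁ q m) := (_root_.DTen.εLeft A Kc).naturality (q m)
    rw [Category.assoc, Category.assoc, h1]
    erw [reassoc_of% h2]
    have h3 : (_root_.DTen.symm A).app (Q₀.obj Kc, Q₀.obj U) ≫ (_root_.DTen.εLeft A Kc).app U =
        (_root_.DTen.ε A).app (U, Kc) ≫ Q₀.map (_root_.DTen.braidCx U Kc).hom := by
      exact _root_.DTen.symm_fac A Kc U
    erw [reassoc_of% h3]
    simp only [w, Category.assoc, IsIso.inv_hom_id_assoc]
    rw [← Functor.map_comp_assoc, ← Functor.map_comp_assoc, ← Functor.map_comp_assoc]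
    have h4 : incl ≫ (λ_ Kc).inv ≫ (_root_.DTen.braidCx U Kc).hom ≫ Kc ◁ q m = 0 := by
      have hn := _root_.DTen.braidCx_naturality (q m) (𝟙 Kc)
      rw [MonoidalCategory.tensorHom_id, MonoidalCategory.id_tensorHom] at hn
      rw [← hn, leftUnitor_inv_naturality_assoc]
      rw [← Category.assoc (_ ◁ incl), whisker_exchange, Category.assoc]
      have h5 : ((adicCx I).obj (op m)) ◁ incl = 0 := whiskerLeft_single_eq_zero I M m
      rw [h5, zero_comp, comp_zero, comp_zero]
    simp only [Category.assoc] at h4 ⊢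
    rw [h4, Functor.map_zero, zero_comp]
  -- exactness
  let S : ShortComplex (ModuleCat.{u} A) := ShortComplex.mk (ModuleCat.ofHom I.subtype) (mkI I 0) (by
    ext x
    refine (Submodule.Quotient.mk_eq_zero _).2 ?_
    rw [zero_add, pow_one]
    change (x : A) ∈ _
    have h := Submodule.smul_mem_smul x.2 (Submodule.mem_top : (1 : A) ∈ (⊤ : Submodule A A))
    simpa using h)
  have hS : S.ShortExact :=
    { exact := by
        rw [ShortComplex.moduleCat_exact_iff]
        intro x hx
        have hx' : x ∈ I ^ (0 + 1) • (⊤ : Submodule A A) := (Submodule.Quotient.mk_eq_zero _).1 hx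
        rw [zero_add, pow_one] at hx'
        exact ⟨⟨x, (Submodule.smul_le (P := (I : Submodule A A))).2 (fun r hr s _ => Ideal.mul_mem_right _ _ hr) hx'⟩, rfl⟩
      mono_f := (ModuleCat.mono_iff_injective _).2 Subtype.val_injective
      epi_g := (ModuleCat.epi_iff_surjective _).2 (Submodule.mkQ_surjective _) }
  have hT := DerivedCategory.triangleOfSES_distinguished
    (hS.map_of_exact (HomologicalComplex.single (ModuleCat.{u} A) (ComplexShape.up ℤ) 0))
  have hex := Groth.L10.DTen.ExTri.map (Groth.L10.DTen.triF_right (Q₀.obj Kc))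
    (Groth.L10.DTen.ExTri.of_triangle _ hT)
  obtain ⟨g, hg⟩ := Groth.L10.DTen.ExTri.exact hex (Q₀.map incl ≫ w) ((Category.assoc _ _ _).trans hzero)
  refine ⟨g, ?_⟩
  have hg' : g ≫ (_root_.DTen.LTen₂ A).map (Prod.mkHom
      (DerivedCategory.Q.map ((sgc A).map (ModuleCat.ofHom I.subtype))) (𝟙 (Q₀.obj Kc))) = Q₀.map incl ≫ w := hg
  rw [reassoc_of% hg']
  exact (congrArg (Q₀.map incl ≫ ·) hw).trans (Category.comp_id _)

end Groth.L10.Adic
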